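import Cfsg.Agent.Lib.U62Aut.Graph

/-!
There is only one component: a member outside would give too few involutions in the intersection of its
centralizer with the stabilizer of a component. So the class is a class of 3-transpositions.
-/

set_option autoImplicit false
set_option linter.style.haveILetI false
set_option linter.unusedSectionVars false

namespace Cfsg.Agent.U62Aut.Setting

open Subgroup

universe u

variable {G : Type u} [Group G] [Finite G] {P : Type} [Fintype P] [DecidableEq P] (S : Setting G P)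
  {a b c d e f g x y z t u v : G}

/-- The stabilizer of a class. -/
def stab (hz : z ∈ S.D) : Subgroup G where
  carrier := {g | S.Near z (g * z * g⁻¹)}
  one_mem' := by simpa using S.near_of_commute hz hz (Commute.refl z)
  mul_mem' := fun {g h} (hg : S.Near z (g * z * g⁻¹)) (hh : S.Near z (h * z * h⁻¹)) => by
    show S.Near z (g * h * z * (g * h)⁻¹)
    rw [show g * h * z * (g * h)⁻¹ = g * (h * z * h⁻¹) * g⁻¹ by group]
    exact hg.trans (hh.conj g)
  inv_mem' := fun {g} (hg : S.Near z (g * z * g⁻¹)) => by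
    show S.Near z (g⁻¹ * z * g⁻¹⁻¹)
    have := (hg.conj g⁻¹).symm
    simpa [mul_assoc] using this

variable {S}

theorem mem_stab {hz : z ∈ S.D} : g ∈ S.stab hz ↔ S.Near z (g * z * g⁻¹) := Iff.rfl

theorem stab_conj {hz : z ∈ S.D} (hg : g ∈ S.stab hz) (h : S.Near z u) : S.Near z (g * u * g⁻¹) :=
  (mem_stab.1 hg).trans (h.conj g)

/-- An involution fixing a class fixes one of its members. -/
theorem exists_fixed {hz : z ∈ S.D} (hg : g ∈ S.stab hz) (h2 : g * g = 1) : ∃ b, S.Near z b ∧ Commute g b := by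
  classical
  haveI := Fintype.ofFinite G
  have hgi : g⁻¹ = g := inv_eq_of_mul_eq_one_right h2
  let σ : Equiv.Perm {u | S.Near z u} :=
    { toFun := fun a => ⟨g * a * g⁻¹, stab_conj hg a.2⟩
      invFun := fun a => ⟨g * a * g⁻¹, stab_conj hg a.2⟩
      left_inv := fun a => Subtype.ext (by simp [hgi, mul_assoc, h2, ← mul_assoc g g])
      right_inv := fun a => Subtype.ext (by simp [hgi, mul_assoc, h2, ← mul_assoc g g]) }
  haveI : Fact (Nat.Prime 2) := ⟨Nat.prime_two⟩
  obtain ⟨a, ha⟩ := Equiv.Perm.exists_fixed_point_of_prime (p := 2) (n := 1) (σ := σ)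
    (by rw [← Nat.card_eq_fintype_card, Nat.card_coe_set_eq, S.card_near hz]; norm_num)
    (by rw [pow_one, pow_two]; exact Equiv.ext fun a => σ.left_inv a)
  exact ⟨a, a.2, mul_inv_eq_iff_eq_mul.1 (congrArg Subtype.val ha)⟩

theorem near_of_mem_stab {hz : z ∈ S.D} (hg : g ∈ S.D) (h : g ∈ S.stab hz) : S.Near z g := by
  obtain ⟨b, hb, hc⟩ := exists_fixed h (S.sq hg)
  exact hb.trans (S.near_of_commute hb.2.1 hg hc.symm)

theorem commute_both (p : Pair S a b) (hy : y ∈ S.D) (h : Commute (a * b) y) : Commute a y ∧ Commute b y := by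
  have h1 := p.commute_left hy h
  refine ⟨h1, ?_⟩
  have := h1.mul_left h
  rwa [← mul_assoc, S.sq p.hz, one_mul] at this

theorem pair_stab (p : Pair S a b) {hz : z ∈ S.D} (ha : S.Near z a) (hg : Commute (a * b) g) : g ∈ S.stab hz := by
  have hb : S.Near z b := ha.trans (S.near_of_commute p.hz p.ht.1 p.ht.2.2)
  have hga : S.Near z (g * a * g⁻¹) := by rcases p.fix_pair hg with h | h <;> rw [h] <;> assumption
  exact mem_stab.2 (hga.trans (ha.symm.conj g))

theorem dihedral_conj {x y : G} (hx : x * x = 1) (j : ℕ) :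
    (y * y = 1 → x * (x * y) ^ (2 * j) = ((x * y) ^ j)⁻¹ * x * (x * y) ^ j) ∧
    (y * y = 1 → x * (x * y) ^ (2 * j + 1) = ((x * y) ^ j)⁻¹ * y * (x * y) ^ j) := by
  have key : y * y = 1 → x * (x * y) ^ j = ((x * y) ^ j)⁻¹ * x := fun hy => by
    have hrx : x * (x * y) * x⁻¹ = (x * y)⁻¹ := by
      rw [_root_.mul_inv_rev, inv_eq_of_mul_eq_one_right hx, inv_eq_of_mul_eq_one_right hy, ← mul_assoc, hx, one_mul]
    rw [← inv_pow, ← hrx, conj_pow, inv_mul_cancel_right]
  refine ⟨fun hy => ?_, fun hy => ?_⟩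
  · rw [two_mul, pow_add, ← mul_assoc, key hy]
  · rw [show 2 * j + 1 = j + (1 + j) by omega, pow_add, pow_add, pow_one, ← mul_assoc, key hy]
    simp only [mul_assoc]
    rw [← mul_assoc x x, hx, one_mul]

/-- The involutions of a centralizer inside the stabilizer of a class not containing it. -/
def outer (S : Setting G P) (hz : z ∈ S.D) (y : G) : Set G :=
  {u | Commute y u ∧ u * u = 1 ∧ u ∈ S.stab hz ∧ u ≠ 1 ∧ u ∉ S.D ∧ ∀ a ∈ S.D, ∀ b ∈ nbr S.D a, u ≠ a * b}

/-- The members of a class fixed by an element. -/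
def fixedSet (S : Setting G P) (z u : G) : Set G := {a | S.Near z a ∧ Commute a u}

theorem not_J {hz : z ∈ S.D} (hu : u ∈ S.outer hz y) (ha : a ∈ S.D) : u ∉ S.J a := fun hJ => by
  obtain ⟨p, hp, q, hq, e⟩ := S.J_invol a ha u hJ hu.2.1 hu.2.2.2.1 fun e => hu.2.2.2.2.1 (e ▸ ha)
  exact hu.2.2.2.2.2 p hp q hq e

theorem no_pair {hz : z ∈ S.D} (hy : y ∈ S.D) (hyz : ¬ S.Near z y) (hu : u ∈ S.stab hz) (h2 : u * u = 1)
    (hc : Commute y u) : ∀ a ∈ S.D, ∀ b ∈ nbr S.D a, u ≠ a * b := by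
  rintro a ha b hb rfl
  obtain ⟨c, hzc, hcu⟩ := exists_fixed hu h2
  have p : Pair S a b := ⟨ha, hb⟩
  exact hyz ((hzc.trans (S.near_of_commute hzc.2.1 ha (p.commute_left hzc.2.1 hcu).symm)).trans
    (S.near_of_commute ha hy (p.commute_left hy hc.symm)))

theorem perm_injOn {hz : z ∈ S.D} (hy : y ∈ S.D) (hyz : ¬ S.Near z y) :
    Set.InjOn (fun u => (S.perm y u, S.col y u)) (S.outer hz y) := by
  intro u hu v hv he'
  obtain ⟨he, hcol⟩ := Prod.mk.injEq _ _ _ _ ▸ he'
  have huv : Commute y (u * v) := hu.1.mul_right hv.1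
  have hJ : u * v ∈ S.J y := S.col_eq y hy u v hu.1 hv.1 hu.2.1 hv.2.1 he hcol
  have h1 : u * v = 1 := by
    by_contra hne
    obtain ⟨k, hk⟩ := IsPGroup.iff_orderOf.1 (S.J_two y hy) ⟨u * v, hJ⟩
    rw [← Subgroup.orderOf_coe] at hk
    obtain ⟨k, rfl⟩ : ∃ j, k = j + 1 := ⟨k - 1, by
      have : k ≠ 0 := fun h => hne (orderOf_eq_one_iff.1 (by rw [hk, h, pow_zero]))
      omega⟩
    obtain ⟨i, hi⟩ : ∃ i, i = (u * v) ^ 2 ^ k := ⟨_, rfl⟩
    have hi2 : i * i = 1 := by rw [hi, ← pow_add, ← two_mul, ← pow_succ', ← hk, pow_orderOf_eq_one]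
    have hi1 : i ≠ 1 := fun h => by
      have hdvd := orderOf_dvd_of_pow_eq_one (hi ▸ h)
      rw [hk, Nat.pow_dvd_pow_iff_le_right (by norm_num)] at hdvd
      omega
    have his : i ∈ S.stab hz := hi ▸ pow_mem (mul_mem hu.2.2.1 hv.2.2.1) _
    have hiy : i ≠ y := fun e => hyz (near_of_mem_stab hy (e ▸ his))
    obtain ⟨p, hp, q, hq, e⟩ := S.J_invol y hy i (hi ▸ pow_mem hJ _) hi2 hi1 hiy
    exact no_pair hy hyz his hi2 (hi ▸ huv.pow_right _) p hp q hq e
  rw [mul_eq_one_iff_eq_inv.1 h1, inv_eq_of_mul_eq_one_right hv.2.1]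

theorem outer_card {hz : z ∈ S.D} (hy : y ∈ S.D) (hyz : ¬ S.Near z y) : (S.outer hz y).ncard ≤ 2673 := by
  classical
  rw [← (perm_injOn hy hyz).ncard_image]
  refine le_trans (Set.ncard_le_ncard (t := (↑(S.invs ×ˢ (Finset.univ : Finset (Fin 3))) :
    Set (Equiv.Perm P × Fin 3))) ?_ (Finset.finite_toSet _)) ?_
  · rintro _ ⟨u, hu, rfl⟩
    exact Finset.mem_coe.2 (Finset.mem_product.2 ⟨S.perm_invs y hy u hu.1 hu.2.1 (not_J hu hy), Finset.mem_univ _⟩)
  · rw [Set.ncard_coe_finset, Finset.card_product, Finset.card_univ, Fintype.card_fin]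
    exact (Nat.mul_le_mul_right 3 S.invs_card).trans_eq (by norm_num)

/-- The members of a class fixed by an element, at which it induces a product of two transvections. -/
def prodSetAt (S : Setting G P) (z u : G) : Set G :=
  {d | d ∈ S.fixedSet z u ∧ ∃ a ∈ nbr S.D d, ∃ b ∈ nbr S.D d, S.adj (S.pt d a) (S.pt d b) ∧ u = d * a * b}

/-- An outer involution is such a product at no more than 21 members of the class. -/
theorem prodSetAt_card {hz : z ∈ S.D} (hu : u ∈ S.outer hz y) : (prodSetAt S z u).ncard ≤ 21 := by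
  classical
  by_cases hne : (prodSetAt S z u).Nonempty
  swap
  · rw [Set.not_nonempty_iff_eq_empty.1 hne, Set.ncard_empty]; norm_num
  obtain ⟨a, ⟨ha, hau⟩, e, he, f, hf, hadj, hueq⟩ := hne
  have haD := ha.2.1
  have hperm : S.perm a u = S.tr (S.pt a e) * S.tr (S.pt a f) := by
    rw [hueq, S.perm_mul a haD _ _ ((Commute.refl a).mul_right he.2.2) hf.2.2,
      S.perm_mul a haD _ _ (Commute.refl a) he.2.2, S.perm_J a haD a (S.mem_J a haD),
      one_mul, S.perm_nbr a haD e he, S.perm_nbr a haD f hf]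
  have hfixp : ∀ x ∈ nbr S.D a, Commute x u → S.perm a u (S.pt a x) = S.pt a x := fun x hx hxu => by
    rw [← S.pt_conj a haD u hau x hx, ← hxu.eq, mul_inv_cancel_right]
  obtain ⟨r, hr1, hr2⟩ := S.third _ _ hadj
  obtain ⟨F0, hF0⟩ : ∃ F0, F0 = {x | x ∈ nbr S.D a ∧ S.pt a x ∈ {p | S.perm a u p = p}} := ⟨_, rfl⟩
  have hFcard : F0.ncard ≤ 20 := by
    rw [hF0, S.card_fibres haD, hperm]
    have := S.fix_two _ _ hadj
    omega
  have hsub : prodSetAt S z u ⊆ {a} ∪ F0 := by
    rintro x ⟨⟨hx, hxu⟩, -⟩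
    by_cases hxa : x = a
    · exact Or.inl hxa
    by_cases hc : Commute a x
    · exact Or.inr (hF0 ▸ ⟨⟨hx.2.1, hxa, hc⟩, hfixp x ⟨hx.2.1, hxa, hc⟩ hxu⟩)
    exfalso
    have hnear : S.Near x a := hx.symm.trans ha
    have hnc : ¬ Commute x a := fun h => hc h.symm
    obtain ⟨c, hcm, hcp⟩ := hnear.comm2_surj hnc r
    have hce : Commute c e := (S.commute_iff haD hcm.2 he).2 (Or.inr (hcp ▸ S.adj_symm _ _ hr1))
    have hcf : Commute c f := (S.commute_iff haD hcm.2 hf).2 (Or.inr (hcp ▸ S.adj_symm _ _ hr2))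
    have hef : Commute e f := (S.commute_iff haD he hf).2 (Or.inr hadj)
    have hen : e ∈ nbr S.D c := ⟨he.1, fun h => S.adj_irrefl r (by rw [← h] at hcp; rwa [hcp] at hr1), hce⟩
    have hfn : f ∈ nbr S.D c := ⟨hf.1, fun h => S.adj_irrefl r (by rw [← h] at hcp; rwa [hcp] at hr2), hcf⟩
    have han : a ∈ nbr S.D c := S.nbr_symm haD hcm.2
    have hcu : Commute c u := hueq ▸ (han.2.2.mul_right hce).mul_right hcf
    have hxc : x ∈ nbr S.D c := S.nbr_symm hx.2.1 hcm.1
    have hD : c ∈ S.D := hcm.1.1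
    have hpc : S.perm c u = S.tr (S.pt c a) * S.tr (S.pt c e) * S.tr (S.pt c f) := by
      rw [hueq, S.perm_mul c hD _ _ (han.2.2.mul_right hce) hcf, S.perm_mul c hD _ _ han.2.2 hce,
        S.perm_nbr c hD a han, S.perm_nbr c hD e hen, S.perm_nbr c hD f hfn]
    have hne_ae : S.pt c a ≠ S.pt c e := fun h => by
      have h' := S.line_symm c hD a han e hen he.2.1.symm h
      rw [hcp] at h'
      exact S.adj_irrefl r (by rwa [← h'] at hr1)
    have hne_af : S.pt c a ≠ S.pt c f := fun h => by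
      have h' := S.line_symm c hD a han f hfn hf.2.1.symm h
      rw [hcp] at h'
      exact S.adj_irrefl r (by rwa [← h'] at hr2)
    have hadj_ae : S.adj (S.pt c a) (S.pt c e) := ((S.commute_iff hD han hen).1 he.2.2).resolve_left hne_ae
    have hadj_af : S.adj (S.pt c a) (S.pt c f) := ((S.commute_iff hD han hfn).1 hf.2.2).resolve_left hne_af
    have hfix : S.perm c u (S.pt c x) = S.pt c x := by
      rw [← S.pt_conj c hD u hcu x hxc, ← hxu.eq, mul_inv_cancel_right]
    rw [hpc] at hfix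
    have hcases : S.pt c x = S.pt c a ∨ S.adj (S.pt c a) (S.pt c x) := by
      rcases (S.commute_iff hD hen hfn).1 hef with h | h
      · rw [← h, mul_assoc, S.tr_sq, mul_one] at hfix
        exact S.fix_one _ _ hfix
      · exact S.fix_three _ _ _ hadj_ae hadj_af h _ hfix
    exact hnc ((S.commute_iff hD hxc han).2 (hcases.imp id (S.adj_symm _ _)))
  refine le_trans (Set.ncard_le_ncard hsub (Set.toFinite _)) ?_
  have := Set.ncard_union_le ({a} : Set G) F0
  rw [Set.ncard_singleton] at this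
  omega

/-- The members of the class form a single component. -/
theorem near_all (hz : z ∈ S.D) (hy : y ∈ S.D) : S.Near z y := by
  classical
  haveI := Fintype.ofFinite G
  by_contra hyz
  obtain ⟨PR, hPR⟩ : ∃ PR : Finset (G × G), PR = Finset.univ.filter fun p => S.Near z p.1 ∧ p.2 ∈ nbr S.D p.1 :=
    ⟨_, rfl⟩
  have hPcard : PR.card = 693 * 180 := by
    obtain ⟨A, hA⟩ : ∃ A : Finset G, A = Finset.univ.filter fun a => S.Near z a := ⟨_, rfl⟩
    have hAcard : A.card = 693 := by rw [← S.card_near hz, ← Set.ncard_coe_finset, hA]; congr 1; ext; simp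
    rw [Finset.card_eq_sum_card_fiberwise (f := Prod.fst) (t := A) (fun p hp => by
      simp only [hPR, hA, Finset.coe_filter, Finset.mem_univ, true_and, Set.mem_ofPred_eq] at hp ⊢; exact hp.1)]
    rw [Finset.sum_const_nat fun a ha => ?_, hAcard]
    simp only [hA, Finset.mem_filter, Finset.mem_univ, true_and] at ha
    rw [← S.card_nbr ha.2.1, ← Set.ncard_coe_finset,
      ← Set.InjOn.ncard_image (f := fun p : G × G => p.2) (s := ↑(PR.filter fun p => p.1 = a)) ?_]
    · congr 1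
      ext b
      simp only [hPR, Set.mem_image, Finset.coe_filter, Finset.mem_filter, Finset.mem_univ, true_and,
        Set.mem_ofPred_eq, Prod.exists]
      exact ⟨fun ⟨p, q, ⟨⟨h1, h2⟩, h3⟩, h4⟩ => h4 ▸ h3 ▸ h2, fun h => ⟨a, b, ⟨⟨ha, h⟩, rfl⟩, rfl⟩⟩
    · intro p hp q hq e
      simp only [Finset.coe_filter, Set.mem_ofPred_eq] at hp hq
      exact Prod.ext (hp.2.trans hq.2.symm) e
  obtain ⟨W, hW⟩ : ∃ W : Finset G, W = PR.image fun p => p.1 * p.2 := ⟨_, rfl⟩
  have hWcard : 693 * 180 ≤ 2 * W.card := by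
    rw [← hPcard, hW]
    refine Finset.card_le_mul_card_image _ 2 fun w hw => ?_
    obtain ⟨⟨a, b⟩, hab, rfl⟩ := Finset.mem_image.1 hw
    simp only [hPR, Finset.mem_filter, Finset.mem_univ, true_and] at hab
    have p : Pair S a b := ⟨hab.1.2.1, hab.2⟩
    refine le_trans (Finset.card_le_card (t := {(a, b), (b, a)}) ?_) Finset.card_le_two
    rintro ⟨c, e⟩ hc
    simp only [hPR, Finset.mem_filter, Finset.mem_univ, true_and] at hc
    obtain ⟨⟨hc1, hc2⟩, hc3⟩ := hc
    have hcc : Commute (a * b) c := by rw [← hc3]; exact (Commute.refl c).mul_left hc2.2.2.symm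
    obtain ⟨h1, h2⟩ := commute_both p hc1.2.1 hcc
    have hee : e = c * (a * b) := by rw [← hc3, ← mul_assoc, S.sq hc1.2.1, one_mul]
    have he : a * b * c = e := by rw [hcc.eq, ← hee]
    simp only [Finset.mem_insert, Finset.mem_singleton, Prod.mk.injEq]
    by_cases hca : c = a
    · exact Or.inl ⟨hca, by rw [hee, hca, ← mul_assoc, S.sq p.hz, one_mul]⟩
    · have hcb := S.mul_unique a p.hz b p.ht c ⟨hc1.2.1, hca, h1⟩ h2 (he ▸ hc2.1)
      refine Or.inr ⟨hcb.symm, ?_⟩
      rw [hee, ← hcb, p.ht.2.2.eq, ← mul_assoc, S.sq p.ht.1, one_mul]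
  have hkey : ∀ x ∈ W, ∃ u ∈ S.outer hz y, x * u ∈ prodSetAt S z u := by
    intro x hx
    rw [hW, Finset.mem_image] at hx
    obtain ⟨⟨a, b⟩, hab, rfl⟩ := hx
    simp only [hPR, Finset.mem_filter, Finset.mem_univ, true_and] at hab
    obtain ⟨ha, hb⟩ := hab
    have p : Pair S a b := ⟨ha.2.1, hb⟩
    have hxx := S.mul_sq ha.2.1 hb
    have hyy := S.sq hy
    obtain ⟨x, hxdef⟩ : ∃ x, x = a * b := ⟨_, rfl⟩
    rw [← hxdef] at hxx ⊢
    obtain ⟨r, hr⟩ : ∃ r, r = x * y := ⟨_, rfl⟩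
    have heven : Even (orderOf r) := by
      rcases Nat.even_or_odd (orderOf r) with h | ⟨j, hj⟩
      · exact h
      exfalso
      have e1 := (dihedral_conj (y := y) hxx j).2 hyy
      rw [← hr, ← hj, pow_orderOf_eq_one, mul_one] at e1
      refine S.mul_not_mem a p.hz b p.ht ?_
      rw [← hxdef, e1]
      simpa using S.conj_mem (r ^ j)⁻¹ y hy
    obtain ⟨m, hm⟩ := heven
    have hpos := orderOf_pos r
    obtain ⟨u, hu⟩ : ∃ u, u = r ^ m := ⟨_, rfl⟩
    have hu2 : u * u = 1 := by rw [hu, ← pow_add, ← hm, pow_orderOf_eq_one]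
    have hu1 : u ≠ 1 := fun h => by
      have := Nat.le_of_dvd (by omega) (orderOf_dvd_of_pow_eq_one (hu ▸ h))
      omega
    have hui : u⁻¹ = u := inv_eq_of_mul_eq_one_right hu2
    have hxi : x⁻¹ = x := inv_eq_of_mul_eq_one_right hxx
    have hyi := S.inv_eq hy
    have hrx : x * r * x⁻¹ = r⁻¹ := by rw [hr, _root_.mul_inv_rev, hxi, hyi, ← mul_assoc, hxx, one_mul]
    have hry : y * r * y⁻¹ = r⁻¹ := by rw [hr, _root_.mul_inv_rev, hxi, hyi, mul_assoc, mul_assoc, hyy, mul_one]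
    have hxu : Commute x u := by
      have : x * u * x⁻¹ = u := by rw [hu, ← conj_pow, hrx, inv_pow, ← hu, hui]
      exact mul_inv_eq_iff_eq_mul.1 this
    have hyu : Commute y u := by
      have : y * u * y⁻¹ = u := by rw [hu, ← conj_pow, hry, inv_pow, ← hu, hui]
      exact mul_inv_eq_iff_eq_mul.1 this
    have hus : u ∈ S.stab hz := pair_stab p ha (hxdef ▸ hxu)
    have hnoW := no_pair hy hyz hus hu2 hyu
    rcases Nat.even_or_odd' m with ⟨j, rfl | rfl⟩
    · exfalso
      have e1 := (dihedral_conj (y := x) hyy j).1 hxx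
      have hr' : (y * x) ^ (2 * j) = u := by
        rw [show y * x = (x * y)⁻¹ by rw [_root_.mul_inv_rev, hxi, hyi], inv_pow, ← hr, ← hu, hui]
      rw [hr'] at e1
      have hD : y * u ∈ S.D := by rw [e1]; simpa using S.conj_mem ((y * x) ^ j)⁻¹ y hy
      exact hnoW y hy (y * u) ⟨hD, fun h => hu1 (mul_eq_left.1 h), (Commute.refl y).mul_right hyu⟩
        (by rw [← mul_assoc, hyy, one_mul])
    · have hD : x * u ∈ S.D := by
        rw [hu, hr, (dihedral_conj (y := y) hxx j).2 hyy]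
        simpa using S.conj_mem ((x * y) ^ j)⁻¹ y hy
      have hds : x * u ∈ S.stab hz :=
        pair_stab p ha (hxdef ▸ (Commute.refl x).mul_right hxu)
      have huD : u ∉ S.D := fun huD => hyz
        ((near_of_mem_stab huD hus).trans (S.near_of_commute huD hy hyu.symm))
      have hu' : u ∈ S.outer hz y := ⟨hyu, hu2, hus, hu1, huD, hnoW⟩
      refine ⟨u, hu', ⟨near_of_mem_stab hD hds, hxu.mul_left (Commute.refl u)⟩, ?_⟩
      obtain ⟨d, hd⟩ : ∃ d, d = x * u := ⟨_, rfl⟩
      rw [← hd] at hD ⊢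
      have hueq : u = d * a * b := by
        rw [mul_assoc, ← hxdef, hd, hxu.eq, mul_assoc, hxx, mul_one]
      have hdx : Commute (a * b) d := by rw [← hxdef, hd]; exact (Commute.refl x).mul_right hxu
      obtain ⟨hda, hdb⟩ := commute_both p hD hdx
      have hdne : d ≠ a ∧ d ≠ b := by
        constructor
        · intro h; exact huD (by rw [hueq, h, S.sq p.hz, one_mul]; exact hb.1)
        · intro h; refine huD ?_; rw [hueq, h, mul_assoc, p.ht.2.2.eq, ← mul_assoc, S.sq p.ht.1, one_mul]; exact p.hz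
      have han : a ∈ nbr S.D d := ⟨p.hz, hdne.1.symm, hda.symm⟩
      have hbn : b ∈ nbr S.D d := ⟨p.ht.1, hdne.2.symm, hdb.symm⟩
      refine ⟨a, han, b, hbn, ((S.commute_iff hD han hbn).1 p.ht.2.2).resolve_left fun h => ?_, hueq⟩
      refine not_J hu' hD (S.ker_invol d hD u ?_ hu2 ?_)
      · rw [hueq]; exact ((Commute.refl d).mul_right han.2.2).mul_right hbn.2.2
      · rw [hueq, S.perm_mul d hD _ _ ((Commute.refl d).mul_right han.2.2) hbn.2.2,
          S.perm_mul d hD _ _ (Commute.refl d) han.2.2, S.perm_J d hD d (S.mem_J d hD),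
          one_mul, S.perm_nbr d hD a han, S.perm_nbr d hD b hbn, h, S.tr_sq]
  obtain ⟨UD, hUD⟩ : ∃ UD : Finset (G × G),
      UD = Finset.univ.filter fun p => p.1 ∈ S.outer hz y ∧ p.2 ∈ prodSetAt S z p.1 := ⟨_, rfl⟩
  have hle : W.card ≤ UD.card := by
    refine Finset.card_le_card_of_surjOn (fun p => p.2 * p.1) fun x hx => ?_
    obtain ⟨u, hu, hd⟩ := hkey x hx
    refine ⟨(u, x * u), ?_, ?_⟩
    · simp only [hUD, Finset.coe_filter, Finset.mem_univ, true_and, Set.mem_ofPred_eq]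
      exact ⟨hu, hd⟩
    · simp only [mul_assoc, hu.2.1, mul_one]
  have hUDcard : UD.card ≤ 2673 * 21 := by
    obtain ⟨A, hA⟩ : ∃ A : Finset G, A = (S.outer hz y).toFinset := ⟨_, rfl⟩
    have hmem : ∀ p ∈ UD, p.1 ∈ A := fun p hp => by
      simp only [hUD, hA, Finset.mem_filter, Set.mem_toFinset] at hp ⊢; exact hp.2.1
    rw [Finset.card_eq_sum_card_fiberwise hmem]
    refine le_trans (Finset.sum_le_card_nsmul _ _ 21 fun u hu => ?_) ?_
    · simp only [hA, Set.mem_toFinset] at hu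
      refine le_trans ?_ (prodSetAt_card hu)
      rw [← Set.ncard_coe_finset]
      refine Set.ncard_le_ncard_of_injOn Prod.snd ?_ ?_ (Set.toFinite _)
      · intro p hp
        simp only [hUD, Finset.coe_filter, Finset.mem_filter, Finset.mem_univ, true_and, Set.mem_ofPred_eq] at hp
        exact hp.2 ▸ hp.1.2
      · intro p hp q hq e
        simp only [Finset.coe_filter, Set.mem_ofPred_eq] at hp hq
        exact Prod.ext (hp.2.trans hq.2.symm) e
    · rw [smul_eq_mul, hA, ← Set.ncard_eq_toFinset_card']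
      exact Nat.mul_le_mul_right _ (outer_card hy hyz)
  omega

/-- Two members have a product of order at most three. -/
theorem orderOf_mul_le (hx : x ∈ S.D) (hy : y ∈ S.D) : orderOf (x * y) ≤ 3 := by
  by_cases hc : Commute x y
  · refine le_trans (Nat.le_of_dvd two_pos (orderOf_dvd_of_pow_eq_one ?_)) (by norm_num)
    rw [hc.mul_pow, pow_two, pow_two, S.sq hx, S.sq hy, one_mul]
  · exact Nat.le_of_dvd (by norm_num) (orderOf_dvd_of_pow_eq_one ((near_all hx hy).pow_three hc))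

theorem card_D (hz : z ∈ S.D) : S.D.ncard = 693 := by
  rw [← S.card_near hz]
  congr 1
  ext y
  exact ⟨near_all hz, fun h => h.2.1⟩

end Cfsg.Agent.U62Aut.Setting
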