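import Cfsg.Agent.Lib.U62Aut.Fibre
import Cfsg.Agent.Lib.U62Aut.Components

/-!
From the local hypotheses at every member of a class to the setting of the recognition: the class is a class
of 3-transpositions.
-/

set_option autoImplicit false
set_option linter.style.haveILetI false
set_option linter.unusedSectionVars false
set_option linter.unusedVariables false

namespace Cfsg.Agent.U62Aut.Fam

open Subgroup LargeExtra
open scoped commutatorElement

variable {G : Type*} [Group G] [Finite G] {P : Type} [Fintype P] [DecidableEq P] {Γ : Geo P} (F : Fam (G := G) Γ)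
  {d e f : G} {p q : P}

open Classical in
/-- The action at a member. -/
noncomputable def permF (d g : G) : Equiv.Perm P := if h : d ∈ F.D then (F.loc d h).perm g else 1

theorem permF_eq (hd : d ∈ F.D) (g : G) : F.permF d g = (F.loc d hd).perm g := dif_pos hd

open Classical in
/-- The colour at a member. -/
noncomputable def colF (d g : G) : Fin 3 := if h : d ∈ F.D then (F.loc d h).col g else 0

theorem colF_eq (hd : d ∈ F.D) (g : G) : F.colF d g = (F.loc d hd).col g := dif_pos hd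

theorem nonempty_P (Γ : Geo P) : Nonempty P := Fintype.card_pos_iff.1 (by rw [Γ.card_P]; norm_num)

open Classical in
/-- The point under a member. -/
noncomputable def ptF (d e : G) : P :=
  if h : ∃ p, F.permF d e = Γ.tr p then h.choose else (nonempty_P Γ).some

theorem ptF_spec (hd : d ∈ F.D) (he : e ∈ nbr F.D d) : (F.loc d hd).perm e = Γ.tr (F.ptF d e) := by
  have h : ∃ p, F.permF d e = Γ.tr p := by rw [F.permF_eq hd]; exact F.exists_tr hd he
  rw [ptF, dif_pos h, ← F.permF_eq hd]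
  exact h.choose_spec

theorem ptF_of (hd : d ∈ F.D) (he : e ∈ nbr F.D d) (h : (F.loc d hd).perm e = Γ.tr p) : F.ptF d e = p :=
  Γ.tr_inj ((F.ptF_spec hd he).symm.trans h)

/-- Members over one point: the first times the meet of the cores times the centre. -/
theorem same_iff (hd : d ∈ F.D) (he : e ∈ nbr F.D d) (hf : f ∈ nbr F.D d) :
    F.ptF d e = F.ptF d f ↔ f = e ∨ ∃ r ∈ coreAt d ⊓ coreAt e, r ≠ 1 ∧ f = e * (r * d) := by
  refine ⟨fun h => F.lift hd he (F.ptF_spec hd he) hf (h ▸ F.ptF_spec hd hf), ?_⟩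
  rintro (rfl | ⟨r, hr, hr1, rfl⟩)
  · rfl
  · refine (F.ptF_of hd hf ?_).symm
    obtain ⟨L, hL⟩ : ∃ L : Loc Γ d, L = F.loc d hd := ⟨_, rfl⟩
    have hdr : Commute d r := L.comm hr.1
    rw [← hL, L.perm_mul _ _ he.2.2 (hdr.mul_right (Commute.refl d)), L.perm_mul _ _ hdr (Commute.refl d),
      L.perm_core r hr.1, L.perm_z, mul_one, mul_one, hL, F.ptF_spec hd he]

theorem mem_fibre (hd : d ∈ F.D) (he : e ∈ nbr F.D d) {r : G} (hr : r ∈ coreAt d ⊓ coreAt e) (hr1 : r ≠ 1) :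
    e * (r * d) ∈ nbr F.D d := by
  obtain ⟨-, -, -, -, hs⟩ := F.fibre hd he (F.ptF_spec hd he)
  obtain ⟨b, hb, h⟩ := hs r hr hr1
  have hdb : Commute d b := (F.loc d hd).comm hb
  rw [← h]
  refine ⟨F.conj_mem b e he.1, fun h' => he.2.1 ?_, (hdb.mul_right he.2.2).mul_right hdb.inv_right⟩
  have : e = b⁻¹ * d * b := by rw [← h']; group
  rw [this, mul_assoc, hdb.eq, inv_mul_cancel_left]

theorem exists_lift (hnwc : ∀ d ∈ F.D, ∃ e, e ∈ nbr F.D d) (hd : d ∈ F.D) (p : P) :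
    ∃ e ∈ nbr F.D d, (F.loc d hd).perm e = Γ.tr p := by
  obtain ⟨e, he⟩ := hnwc d hd
  obtain ⟨L, hL⟩ : ∃ L : Loc Γ d, L = F.loc d hd := ⟨_, rfl⟩
  obtain ⟨g, hg, hgp⟩ := L.trans (F.ptF d e) p
  refine ⟨g * e * g⁻¹, ⟨F.conj_mem g e he.1, fun h => he.2.1 ?_, (hg.mul_right he.2.2).mul_right hg.inv_right⟩, ?_⟩
  · have : e = g⁻¹ * d * g := by rw [← h]; group
    rw [this, mul_assoc, hg.eq, inv_mul_cancel_left]
  · rw [← hL, L.perm_mul _ _ (hg.mul_right he.2.2) hg.inv_right, L.perm_mul _ _ hg he.2.2,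
      show L.perm g⁻¹ = (L.perm g)⁻¹ from eq_inv_of_mul_eq_one_right (by
        rw [← L.perm_mul _ _ hg hg.inv_right, mul_inv_cancel, L.perm_one]),
      show L.perm e = Γ.tr (F.ptF d e) from hL ▸ F.ptF_spec hd he, L.perm_tr g hg, hgp]

theorem fibre_ncard (hnwc : ∀ d ∈ F.D, ∃ e, e ∈ nbr F.D d) (hd : d ∈ F.D) (p : P) :
    {e | e ∈ nbr F.D d ∧ F.ptF d e = p}.ncard = 4 := by
  classical
  obtain ⟨t, ht, hp⟩ := F.exists_lift hnwc hd p
  obtain ⟨-, -, hR4, -, -⟩ := F.fibre hd ht hp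
  have hpt := F.ptF_of hd ht hp
  obtain ⟨R, hR⟩ : ∃ R, R = coreAt d ⊓ coreAt t := ⟨_, rfl⟩
  rw [← hR] at hR4
  have hset : {e | e ∈ nbr F.D d ∧ F.ptF d e = p} =
      insert t ((fun r => t * (r * d)) '' ((R : Set G) \ {1})) := by
    ext e
    simp only [Set.mem_ofPred_eq, Set.mem_insert_iff, Set.mem_image, Set.mem_diff, Set.mem_singleton_iff,
      SetLike.mem_coe]
    constructor
    · rintro ⟨he, hep⟩
      rcases (F.same_iff hd ht he).1 (hpt.trans hep.symm) with h | ⟨r, hr, hr1, h⟩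
      exacts [Or.inl h, Or.inr ⟨r, ⟨hR ▸ hr, hr1⟩, h.symm⟩]
    · rintro (rfl | ⟨r, ⟨hr, hr1⟩, rfl⟩)
      · exact ⟨ht, hpt⟩
      · have hr' : r ∈ coreAt d ⊓ coreAt t := hR ▸ hr
        exact ⟨F.mem_fibre hd ht hr' hr1,
          ((F.same_iff hd ht (F.mem_fibre hd ht hr' hr1)).2 (Or.inr ⟨r, hr', hr1, rfl⟩)).symm.trans hpt⟩
  have hne : t ∉ (fun r => t * (r * d)) '' ((R : Set G) \ {1}) := by
    rintro ⟨r, ⟨hr, hr1⟩, h⟩
    have h1 : r = d := by
      have := mul_eq_left.1 h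
      rw [← F.invD hd]
      exact eq_inv_of_mul_eq_one_left this
    exact F.notMem' hd ht (h1 ▸ (hR ▸ hr : r ∈ coreAt d ⊓ coreAt t).2)
  have hinj : Function.Injective fun r : G => t * (r * d) := fun a b h => mul_right_cancel (mul_left_cancel h)
  rw [hset, Set.ncard_insert_of_notMem hne, Set.ncard_image_of_injective _ hinj,
    Set.ncard_diff_singleton_of_mem (one_mem R), ← Nat.card_coe_set_eq]
  show Nat.card R - 1 + 1 = 4
  omega

theorem line_prod' (hd : d ∈ F.D) {e' f' : G} (he : e ∈ nbr F.D d) (he' : e' ∈ nbr F.D d) (hf : f ∈ nbr F.D d)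
    (hf' : f' ∈ nbr F.D d) (hne : e ≠ e') (h1 : F.ptF d e = F.ptF d e') (h2 : F.ptF d f = F.ptF d f')
    (heq : e * e' = f * f') : F.ptF d e = F.ptF d f := by
  by_contra hn
  obtain ⟨L, hL⟩ : ∃ L : Loc Γ d, L = F.loc d hd := ⟨_, rfl⟩
  have key : ∀ {a b : G}, a ∈ nbr F.D d → b ∈ nbr F.D d → F.ptF d a = F.ptF d b →
      a * b ∈ L.rad (F.ptF d a) := by
    intro a b ha hb h
    rcases (F.same_iff hd ha hb).1 h with rfl | ⟨r, hr, -, rfl⟩
    · rw [F.sqD ha.1]; exact one_mem _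
    · rw [← mul_assoc, F.sqD ha.1, one_mul, hL]
      exact mul_mem ((F.fibre hd ha (F.ptF_spec hd ha)).2.1 hr) ((F.loc d hd).z_mem_rad _)
  rcases L.xs.toXSub.mem_zpowers_iff.1 (L.rad_inf _ _ hn _ (key he he' h1) (heq ▸ key hf hf' h2)) with h | h
  · exact hne ((eq_inv_of_mul_eq_one_left h).trans (F.invD he'.1))
  · refine (F.fibre hd he (F.ptF_spec hd he)).2.2.2.1 ?_
    rw [he.2.2.eq, show e * d = e' by rw [← h, ← mul_assoc, F.sqD he.1, one_mul]]
    exact he'.1

theorem line_five' (hd : d ∈ F.D) {a b c : G} (ha : a ∈ nbr F.D d) (hb : b ∈ nbr F.D d) (hc : c ∈ nbr F.D d)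
    (he : e ∈ nbr F.D d) (hab : a ≠ b) (hac : a ≠ c) (hae : a ≠ e) (hbc : b ≠ c) (hbe : b ≠ e) (hce : c ≠ e)
    (pb : F.ptF d a = F.ptF d b) (pc : F.ptF d a = F.ptF d c) (pe : F.ptF d a = F.ptF d e) :
    d * a * b * c * e = 1 := by
  classical
  obtain ⟨r₁, hr₁, h11, rfl⟩ := ((F.same_iff hd ha hb).1 pb).resolve_left (Ne.symm hab)
  obtain ⟨r₂, hr₂, h21, rfl⟩ := ((F.same_iff hd ha hc).1 pc).resolve_left (Ne.symm hac)
  obtain ⟨r₃, hr₃, h31, rfl⟩ := ((F.same_iff hd ha he).1 pe).resolve_left (Ne.symm hae)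
  have hR4 := (F.fibre hd ha (F.ptF_spec hd ha)).2.2.1
  have n12 : r₁ ≠ r₂ := fun h => hbc (by rw [h])
  have n13 : r₁ ≠ r₃ := fun h => hbe (by rw [h])
  have n23 : r₂ ≠ r₃ := fun h => hce (by rw [h])
  have hsq : ∀ r ∈ coreAt d ⊓ coreAt a, r * r = 1 := fun r hr => F.core_inf_sq hd ha hr
  have hall : ∀ x ∈ coreAt d ⊓ coreAt a, x = 1 ∨ x = r₁ ∨ x = r₂ ∨ x = r₃ := by
    intro x hx
    by_contra hn
    push Not at hn
    have hsub : ({1, r₁, r₂, r₃, x} : Finset G) ⊆ ((coreAt d ⊓ coreAt a : Subgroup G) : Set G).toFinite.toFinset := by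
      intro y hy
      simp only [Finset.mem_insert, Finset.mem_singleton] at hy
      rw [Set.Finite.mem_toFinset, SetLike.mem_coe]
      rcases hy with rfl | rfl | rfl | rfl | rfl
      exacts [one_mem _, hr₁, hr₂, hr₃, hx]
    have h5 : ({1, r₁, r₂, r₃, x} : Finset G).card = 5 := by
      repeat rw [Finset.card_insert_of_notMem]
      · rfl
      all_goals simp [h11, h21, h31, n12, n13, n23, hn.1, Ne.symm hn.1, hn.2.1, Ne.symm hn.2.1, hn.2.2.1,
        Ne.symm hn.2.2.1, hn.2.2.2, Ne.symm hn.2.2.2, Ne.symm h11, Ne.symm h21, Ne.symm h31]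
    have := Finset.card_le_card hsub
    rw [h5, ← Set.ncard_eq_toFinset_card, ← Nat.card_coe_set_eq] at this
    have h4 : Nat.card ((coreAt d ⊓ coreAt a : Subgroup G) : Set G) = 4 := hR4
    omega
  have hprod : r₁ * r₂ * r₃ = 1 := by
    rcases hall _ (mul_mem hr₁ hr₂) with h | h | h | h
    · exact absurd ((eq_inv_of_mul_eq_one_right h).trans (inv_eq_of_mul_eq_one_right (hsq r₁ hr₁))) (Ne.symm n12)
    · exact absurd (mul_eq_left.1 h) h21
    · exact absurd (mul_eq_right.1 h) h11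
    · rw [h, hsq r₃ hr₃]
  obtain ⟨L, hL⟩ : ∃ L : Loc Γ d, L = F.loc d hd := ⟨_, rfl⟩
  obtain ⟨La, hLa⟩ : ∃ L : Loc Γ a, L = F.loc a ha.1 := ⟨_, rfl⟩
  have c1 : Commute a r₁ := La.comm hr₁.2
  have c2 : Commute a r₂ := La.comm hr₂.2
  have d1 : Commute d r₁ := L.comm hr₁.1
  have d2 : Commute d r₂ := L.comm hr₂.1
  have haa := F.sqD ha.1
  have hdd := F.sqD hd
  have hda : Commute d a := ha.2.2
  have p1 : d * a * (a * (r₁ * d)) = r₁ := by
    rw [mul_assoc d, ← mul_assoc a a, haa, one_mul, ← mul_assoc, d1.eq, mul_assoc, hdd, mul_one]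
  have p2 : a * (r₂ * d) * (a * (r₃ * d)) = r₂ * r₃ := by
    have d3 : Commute d r₃ := L.comm hr₃.1
    calc a * (r₂ * d) * (a * (r₃ * d)) = a * r₂ * (d * a) * (r₃ * d) := by group
      _ = r₂ * (a * a) * d * (r₃ * d) := by rw [c2.eq, hda.eq]; group
      _ = r₂ * (d * r₃) * d := by rw [haa]; group
      _ = r₂ * r₃ := by rw [d3.eq, mul_assoc, mul_assoc r₃, hdd, mul_one]
  calc d * a * (a * (r₁ * d)) * (a * (r₂ * d)) * (a * (r₃ * d))
      = d * a * (a * (r₁ * d)) * (a * (r₂ * d) * (a * (r₃ * d))) := by rw [mul_assoc]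
    _ = 1 := by rw [p1, p2, ← mul_assoc, hprod]

theorem odd_trivial' (hd : d ∈ F.D) (he : e ∈ nbr F.D d) (N : Subgroup G) (hN : Odd (Nat.card N))
    (hle : N ≤ centralizer {d, e}) (hn : centralizer {d, e} ≤ normalizer (N : Set G)) : N = ⊥ := by
  obtain ⟨hc, hRle, -, -, -⟩ := F.fibre hd he (F.ptF_spec hd he)
  obtain ⟨L, hL⟩ : ∃ L : Loc Γ d, L = F.loc d hd := ⟨_, rfl⟩
  rw [← hL] at hc hRle
  have hmem : ∀ {g : G}, g ∈ centralizer {d, e} ↔ Commute d g ∧ Commute e g := fun {g} => by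
    rw [mem_centralizer_iff]
    simp only [Set.mem_insert_iff, Set.mem_singleton_iff, forall_eq_or_imp, forall_eq]
    rfl
  refine (eq_bot_iff_forall _).2 fun x hx => ?_
  obtain ⟨hxd, -⟩ := hmem.1 (hle hx)
  have h1 : ∀ a ∈ coreAt d, (∀ r ∈ L.rad (F.ptF d e), Commute a r) → Commute x a := by
    intro a ha har
    have hca : a ∈ centralizer {d, e} := hmem.2 ⟨L.comm ha, hc a ha har⟩
    have hN' : a * x⁻¹ * a⁻¹ ∈ N := LargeExtra.conj_mem (hn hca) (inv_mem hx)
    have hmemN : x * a * x⁻¹ * a⁻¹ ∈ N := by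
      have := mul_mem hx hN'
      rwa [show x * (a * x⁻¹ * a⁻¹) = x * a * x⁻¹ * a⁻¹ by group] at this
    have := eq_one_of_mem hN (coreAt_isPGroup d) hmemN ((coreAt d).mul_mem (L.conj_core hxd ha) ((coreAt d).inv_mem ha))
    exact mul_inv_eq_iff_eq_mul.1 (mul_inv_eq_one.1 this)
  have h2 : x ∈ centralizer (coreAt d : Set G) := by
    rw [mem_centralizer_iff]
    intro a ha
    obtain ⟨c, hc'⟩ : ∃ c, c = a⁻¹ * (x * a * x⁻¹) := ⟨_, rfl⟩
    have hcJ : c ∈ coreAt d := hc' ▸ (coreAt d).mul_mem ((coreAt d).inv_mem ha) (L.conj_core hxd ha)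
    have hxb : ∀ b ∈ coreAt d, (∀ r ∈ L.rad (F.ptF d e), Commute b r) → Commute (a⁻¹ * (x * a * x⁻¹)) b := by
      intro b hb hbr
      have e1 : x * b * x⁻¹ = b := mul_inv_eq_iff_eq_mul.2 (h1 b hb hbr).eq
      rcases L.xs.toXSub.conj_cases ha hb with e' | e'
      · have hab : Commute a b := (mul_inv_eq_iff_eq_mul.1 e')
        refine hab.inv_left.mul_left ?_
        have := hab.map (MulAut.conj x).toMonoidHom
        simp only [MulEquiv.coe_toMonoidHom, MulAut.conj_apply, e1] at this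
        exact this
      · have hab : a * b = b * d * a := mul_inv_eq_iff_eq_mul.1 e'
        have hz : x * d * x⁻¹ = d := mul_inv_eq_iff_eq_mul.2 hxd.eq.symm
        have h2 : x * a * x⁻¹ * b = b * d * (x * a * x⁻¹) := by
          calc x * a * x⁻¹ * b = x * (a * b) * x⁻¹ := by
                conv_lhs => rw [← e1]
                group
            _ = (x * b * x⁻¹) * (x * d * x⁻¹) * (x * a * x⁻¹) := by rw [hab]; group
            _ = b * d * (x * a * x⁻¹) := by rw [e1, hz]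
        have h3 : a⁻¹ * (b * d) = b * a⁻¹ := by
          have : b * d = a * b * a⁻¹ := by rw [hab, mul_inv_cancel_right]
          rw [this]; group
        show a⁻¹ * (x * a * x⁻¹) * b = b * (a⁻¹ * (x * a * x⁻¹))
        rw [mul_assoc a⁻¹, h2, ← mul_assoc, h3, mul_assoc]
    have hcr : c ∈ L.rad (F.ptF d e) := L.mem_rad_of hcJ (hc' ▸ hxb)
    have hxc : Commute x c := h1 c hcJ fun r hr => by
      have hr2 := L.rad_sq _ r hr
      have hc2 := L.rad_sq _ c hcr
      have hcr2 := L.rad_sq _ _ ((L.rad _).mul_mem hcr hr)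
      calc c * r = c * (c * r * (c * r)) * r := by rw [hcr2, mul_one]
        _ = c * c * (r * c) * (r * r) := by group
        _ = r * c := by rw [hc2, hr2, one_mul, mul_one]
    have hpow : ∀ n : ℕ, x ^ n * a * (x ^ n)⁻¹ = a * c ^ n := by
      intro n
      induction n with
      | zero => simp
      | succ n ih =>
        calc x ^ (n + 1) * a * (x ^ (n + 1))⁻¹ = x * (x ^ n * a * (x ^ n)⁻¹) * x⁻¹ := by
              rw [pow_succ']; group
          _ = (x * a * x⁻¹) * (x * c ^ n * x⁻¹) := by rw [ih]; group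
          _ = a * c ^ (n + 1) := by
              rw [(hxc.pow_right n).eq, mul_inv_cancel_right, pow_succ', ← mul_assoc a c,
                show a * c = x * a * x⁻¹ by rw [hc', mul_inv_cancel_left]]
    have hone : c ^ orderOf x = 1 := by
      have := hpow (orderOf x)
      rw [pow_orderOf_eq_one, one_mul, inv_one, mul_one] at this
      exact mul_eq_left.1 this.symm
    have hc1 : c = 1 := by
      obtain ⟨k, hk⟩ := hN.of_dvd_nat (N.orderOf_dvd_natCard hx)
      rw [hk, pow_succ, pow_mul, pow_two, L.rad_sq _ c hcr, one_pow, one_mul] at hone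
      exact hone
    rw [hc', inv_mul_eq_one] at hc1
    exact ((mul_inv_eq_iff_eq_mul.1 hc1.symm)).symm
  exact eq_one_of_mem hN (coreAt_isPGroup d) hx ((zpowers_le.2 L.xs.mem) (L.xs.cent h2))

/-- The setting. -/
noncomputable def setting (hnwc : ∀ d ∈ F.D, ∃ e, e ∈ nbr F.D d) : Setting G P where
  D := F.D
  J := coreAt
  pt := F.ptF
  perm := F.permF
  adj := Γ.adj
  invs := Γ.invs
  invol d hd := (F.loc d hd).xs.toXSub.orderOf_eq
  conj_mem := F.conj_mem
  mem_J d hd := (F.loc d hd).xs.mem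
  J_comm d hd g hg := (F.loc d hd).comm hg
  J_two d _ := coreAt_isPGroup d
  J_invol d hd r hr h2 h1 hrd := by
    classical
    obtain ⟨L, hL⟩ : ∃ L : Loc Γ d, L = F.loc d hd := ⟨_, rfl⟩
    obtain ⟨p, hp⟩ := L.rad_cover r hr h2 h1 hrd
    obtain ⟨t, ht, htp⟩ := F.exists_lift hnwc hd p
    obtain ⟨-, hRle, hR4, -, -⟩ := F.fibre hd ht htp
    rw [← hL] at hRle htp
    have pair : ∀ c ∈ coreAt d ⊓ coreAt t, c ≠ 1 → ∃ a ∈ F.D, ∃ b ∈ nbr F.D a, c * d = a * b := fun c hc hc1 => by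
      have hm := F.mem_fibre hd ht hc hc1
      refine ⟨t, ht.1, t * (c * d), ⟨hm.1, fun h => hrd ?_, ?_⟩, by rw [← mul_assoc, F.sqD ht.1, one_mul]⟩
      · exfalso
        have hcd : c = d := (eq_inv_of_mul_eq_one_left (mul_eq_left.1 h)).trans (F.invD hd)
        exact F.notMem' hd ht (hcd ▸ hc.2)
      · exact (Commute.refl t).mul_right (((F.loc t ht.1).comm hc.2).mul_right ht.2.2.symm)
    have hcases : ∃ c ∈ coreAt d ⊓ coreAt t, c ≠ 1 ∧ (r = c ∨ r = c * d) := by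
      by_contra hn
      push Not at hn
      obtain ⟨R, hR⟩ : ∃ R, R = coreAt d ⊓ coreAt t := ⟨_, rfl⟩
      have hdj : Disjoint (R : Set G) ((fun c => c * d) '' (R : Set G)) := by
        rw [Set.disjoint_left]
        rintro a ha ⟨b, hb, rfl⟩
        have hmem : d ∈ coreAt d ⊓ coreAt t := hR ▸ (by simpa using R.mul_mem (R.inv_mem hb) ha : d ∈ R)
        exact F.notMem' hd ht hmem.2
      have hsub : insert r ((R : Set G) ∪ (fun c => c * d) '' (R : Set G)) ⊆ (L.rad p : Set G) := by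
        rintro a (rfl | ha | ⟨b, hb, rfl⟩)
        exacts [hp, hRle (hR ▸ ha), (L.rad p).mul_mem (hRle (hR ▸ hb)) (L.z_mem_rad p)]
      have hle := Set.ncard_le_ncard hsub (Set.toFinite _)
      have h8 : (L.rad p : Set G).ncard = 8 := by rw [← Nat.card_coe_set_eq]; exact L.rad_card p
      have h4 : (R : Set G).ncard = 4 := by rw [← Nat.card_coe_set_eq, hR]; exact hR4
      rw [Set.ncard_insert_of_notMem, Set.ncard_union_eq hdj,
        Set.ncard_image_of_injective _ (mul_left_injective d), h4, h8] at hle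
      · omega
      · rintro (h | ⟨b, hb, e⟩)
        · exact (hn r (hR ▸ h) h1).1 rfl
        · by_cases hb1 : b = 1
          · exact hrd (by rw [← e, hb1]; exact one_mul d)
          · exact (hn b (hR ▸ hb) hb1).2 e.symm
    obtain ⟨c, hc, hc1, rfl | rfl⟩ := hcases
    · obtain ⟨a, ha, b, hb, e⟩ := pair r hc hc1
      obtain ⟨k, hk, hkc⟩ := L.xs.toXSub.exists_conj hr h1 hrd
      have hkd : k * (r * d) * k⁻¹ = r := by
        rw [show k * (r * d) * k⁻¹ = k * r * k⁻¹ * (k * d * k⁻¹) by group, hkc, L.xs.comm hk, mul_inv_cancel_right,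
          mul_assoc, L.sq, mul_one]
      refine ⟨k * a * k⁻¹, F.conj_mem k a ha, k * b * k⁻¹,
        ⟨F.conj_mem k b hb.1, fun h => hb.2.1 (mul_left_cancel (mul_right_cancel h)),
          hb.2.2.map (MulAut.conj k).toMonoidHom⟩, ?_⟩
      rw [← hkd, e]; group
    · exact pair c hc hc1
  perm_mul d hd g h hg hh := by simp only [F.permF_eq hd]; exact (F.loc d hd).perm_mul g h hg hh
  perm_J d hd g hg := by simp only [F.permF_eq hd]; exact (F.loc d hd).perm_core g hg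
  ker_invol d hd g hg h2 h1 := by
    rw [F.permF_eq hd] at h1
    exact (F.loc d hd).ker_two g hg h1 1 (by rw [pow_one, pow_two, h2]; exact one_mem _)
  ker_pair d hd g hg h1 e he f hf hne hp hc := by
    rw [F.permF_eq hd] at h1
    obtain ⟨r, hr, hr1, rfl⟩ := ((F.same_iff hd he hf).1 hp).resolve_left (Ne.symm hne)
    refine (F.loc d hd).ker_fix g hg h1 r hr.1 hr1 (fun h => F.notMem' hd he (h ▸ hr.2)) ?_
    have h2 : Commute g (r * d) := by rwa [← mul_assoc, F.sqD he.1, one_mul] at hc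
    have h3 := h2.mul_right hg.symm
    rwa [mul_assoc, F.sqD hd, mul_one] at h3
  col := F.colF
  col_eq d hd u v hu hv hu2 hv2 hp hcol := by
    simp only [F.permF_eq hd] at hp
    simp only [F.colF_eq hd] at hcol
    exact (F.loc d hd).col_eq u v hu hv hu2 hv2 hp hcol
  perm_invs d hd g hg h2 hn := by
    simp only [F.permF_eq hd]
    exact (F.loc d hd).perm_invs g hg (h2 ▸ one_mem _) hn
  invs_card := Γ.invs_card
  tr := Γ.tr
  perm_nbr d hd e he := by rw [F.permF_eq hd]; exact F.ptF_spec hd he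
  tr_sq := Γ.tr_sq
  fix_one := Γ.fix_one
  fix_two := Γ.fix_two
  third := Γ.third
  fix_three := Γ.fix_three
  perm_adj d hd g hg := by simp only [F.permF_eq hd]; exact (F.loc d hd).perm_adj g hg
  card_P := Γ.card_P
  adj_symm := Γ.adj_symm
  adj_irrefl := Γ.adj_irrefl
  adj_card := Γ.adj_card
  common := Γ.common
  connected := Γ.connected
  pt_conj d hd g hg e he := by
    obtain ⟨L, hL⟩ : ∃ L : Loc Γ d, L = F.loc d hd := ⟨_, rfl⟩
    have hge : g * e * g⁻¹ ∈ nbr F.D d := by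
      refine ⟨F.conj_mem g e he.1, fun h => he.2.1 ?_, (hg.mul_right he.2.2).mul_right hg.inv_right⟩
      have : e = g⁻¹ * d * g := by rw [← h]; group
      rw [this, mul_assoc, hg.eq, inv_mul_cancel_left]
    refine F.ptF_of hd hge ?_
    rw [F.permF_eq hd, ← hL, L.perm_mul _ _ (hg.mul_right he.2.2) hg.inv_right, L.perm_mul _ _ hg he.2.2,
      show L.perm g⁻¹ = (L.perm g)⁻¹ from eq_inv_of_mul_eq_one_right (by
        rw [← L.perm_mul _ _ hg hg.inv_right, mul_inv_cancel, L.perm_one]),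
      show L.perm e = Γ.tr (F.ptF d e) from hL ▸ F.ptF_spec hd he, L.perm_tr g hg]
  fibre_card d hd p := F.fibre_ncard hnwc hd p
  pow_two_mem d hd e he f hf h := by
    obtain ⟨L, hL⟩ : ∃ L : Loc Γ d, L = F.loc d hd := ⟨_, rfl⟩
    have hef : Commute d (e * f) := he.2.2.mul_right hf.2.2
    refine L.ker_tr _ _ e f he.2.2 hf.2.2 (hL ▸ F.ptF_spec hd he) (hL ▸ F.ptF_spec hd hf)
      ((F.sqD he.1).symm ▸ one_mem _) ((F.sqD hf.1).symm ▸ one_mem _) 2 ?_
    rw [pow_two, L.perm_mul _ _ hef hef, L.perm_mul _ _ he.2.2 hf.2.2, hL, F.ptF_spec hd he, F.ptF_spec hd hf]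
    rcases h with h | h
    · rw [h, Γ.tr_sq, one_mul]
    · rw [(Γ.tr_comm _ _ h).symm.mul_mul_mul_comm, Γ.tr_sq, Γ.tr_sq, one_mul]
  pow_three_mem d hd e he f hf h1 h2 := by
    obtain ⟨L, hL⟩ : ∃ L : Loc Γ d, L = F.loc d hd := ⟨_, rfl⟩
    have hef : Commute d (e * f) := he.2.2.mul_right hf.2.2
    obtain ⟨h3, hne⟩ := Γ.tr_three _ _ h1 h2
    refine ⟨L.ker_tr _ _ e f he.2.2 hf.2.2 (hL ▸ F.ptF_spec hd he) (hL ▸ F.ptF_spec hd hf)
      ((F.sqD he.1).symm ▸ one_mem _) ((F.sqD hf.1).symm ▸ one_mem _) 3 ?_, fun hm => hne ?_⟩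
    · rw [pow_succ, L.perm_mul _ _ (hef.pow_right 2) hef, pow_two, L.perm_mul _ _ hef hef,
        L.perm_mul _ _ he.2.2 hf.2.2, hL, F.ptF_spec hd he, F.ptF_spec hd hf, ← pow_two, ← pow_succ]
      exact h3
    · rw [← F.ptF_spec hd he, ← F.ptF_spec hd hf, ← (F.loc d hd).perm_mul _ _ he.2.2 hf.2.2]
      exact (F.loc d hd).perm_core _ hm
  line_conj g d hd e he f hf h := by
    have hgd := F.conj_mem g d hd
    have cj : ∀ {a : G}, a ∈ nbr F.D d → g * a * g⁻¹ ∈ nbr F.D (g * d * g⁻¹) := fun ha =>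
      ⟨F.conj_mem g _ ha.1, fun h => ha.2.1 (mul_left_cancel (mul_right_cancel h)),
        ha.2.2.map (MulAut.conj g).toMonoidHom⟩
    refine (F.same_iff hgd (cj he) (cj hf)).2 ?_
    rcases (F.same_iff hd he hf).1 h with rfl | ⟨r, hr, hr1, rfl⟩
    · exact Or.inl rfl
    · refine Or.inr ⟨g * r * g⁻¹, ⟨?_, ?_⟩, fun h => hr1 (conj_eq_one_iff.1 h), by group⟩
      · rw [coreAt_conj]; exact conj_mem_conjMap hr.1
      · rw [coreAt_conj]; exact conj_mem_conjMap hr.2
  perm_fix d hd e he f hf h := by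
    rw [F.permF_eq hd, F.ptF_spec hd he]
    exact Γ.tr_fix _ _ h
  line_comm d hd e he f hf h := by
    rcases (F.same_iff hd he hf).1 h with rfl | ⟨r, hr, -, rfl⟩
    · exact Commute.refl _
    · exact (Commute.refl e).mul_right (((F.loc e he.1).comm hr.2).mul_right he.2.2.symm)
  line_symm d hd e he f hf hne h := by
    obtain ⟨r, hr, hr1, rfl⟩ := ((F.same_iff hd he hf).1 h).resolve_left (Ne.symm hne)
    have hde : d ∈ nbr F.D e := F.nbr_symm hd he
    have hr' : r ∈ coreAt e ⊓ coreAt d := ⟨hr.2, hr.1⟩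
    obtain ⟨L, hL⟩ : ∃ L : Loc Γ e, L = F.loc e he.1 := ⟨_, rfl⟩
    have hrd : Commute r d := ((F.loc d hd).comm hr.1).symm
    have hfe : e * (r * d) ∈ nbr F.D e := by
      refine ⟨hf.1, fun h' => ?_, (Commute.refl e).mul_right ((L.comm hr.2).mul_right he.2.2.symm)⟩
      exact hne h'.symm
    refine Γ.tr_inj ?_
    rw [← F.ptF_spec he.1 hde, ← F.ptF_spec he.1 hfe, ← hL, L.perm_mul _ _ (Commute.refl e)
      ((L.comm hr.2).mul_right he.2.2.symm), L.perm_mul _ _ (L.comm hr.2) he.2.2.symm, L.perm_z,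
      L.perm_core r hr.2, one_mul, one_mul]
  mul_not_mem d hd e he := (F.fibre hd he (F.ptF_spec hd he)).2.2.2.1
  mul_unique d hd e he f hf hef hD := by
    by_contra hne
    obtain ⟨L, hL⟩ : ∃ L : Loc Γ d, L = F.loc d hd := ⟨_, rfl⟩
    have hxd : Commute d (d * e * f) := ((Commute.refl d).mul_right he.2.2).mul_right hf.2.2
    have hperm : L.perm (d * e * f) = Γ.tr (F.ptF d e) * Γ.tr (F.ptF d f) := by
      rw [L.perm_mul _ _ ((Commute.refl d).mul_right he.2.2) hf.2.2, L.perm_mul _ _ (Commute.refl d) he.2.2,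
        L.perm_z, one_mul, hL, F.ptF_spec hd he, F.ptF_spec hd hf]
    have hxne : d * e * f ≠ d := fun h => hne <| by
      rw [mul_assoc, mul_eq_left] at h
      exact (eq_inv_of_mul_eq_one_left h).trans (F.invD hf.1)
    have hx : d * e * f ∈ nbr F.D d := ⟨hD, hxne, hxd⟩
    rw [hL, F.ptF_spec hd hx] at hperm
    by_cases hpq : F.ptF d e = F.ptF d f
    · rw [hpq, Γ.tr_sq] at hperm
      exact Γ.tr_ne_one _ hperm
    · refine Γ.tr_mul_ne _ _ _ hpq ?_ hperm.symm
      show Γ.tr (F.ptF d e) * Γ.tr (F.ptF d f) = Γ.tr (F.ptF d f) * Γ.tr (F.ptF d e)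
      rw [← F.ptF_spec hd he, ← F.ptF_spec hd hf, ← (F.loc d hd).perm_mul _ _ he.2.2 hf.2.2,
        ← (F.loc d hd).perm_mul _ _ hf.2.2 he.2.2, hef.eq]
  line_prod d hd e he e' he' f hf f' hf' hne h1 h2 heq := F.line_prod' hd he he' hf hf' hne h1 h2 heq
  line_five d hd a ha b hb c hc e he h1 h2 h3 h4 h5 h6 h7 h8 h9 :=
    F.line_five' hd ha hb hc he h1 h2 h3 h4 h5 h6 h7 h8 h9
  odd_trivial d hd e he N h1 h2 h3 := F.odd_trivial' hd he N h1 h2 h3

end Cfsg.Agent.U62Aut.Fam
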