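import Cfsg.Agent.Lib.U62Aut.Ident
import Cfsg.Agent.Lib.U62Aut.ToSetting
import Cfsg.Agent.Lib.U62Aut.Model.Bridge
import Cfsg.Agent.Lib.U62Aut.Red.Final
import Cfsg.Agent.Lib.Leech.PairStab
import Cfsg.Agent.Lib.McLTwoA8.Isolated
import Cfsg.Agent.Lib.Transfer.Basic

/-!
An involution whose centralizer has an extraspecial 2-core of order `2^9` with quotient the automorphism
group of the symplectic group: either the group is almost the unitary group or the involution is isolated.
-/

set_option autoImplicit false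
set_option linter.style.haveILetI false
set_option linter.unusedSectionVars false

namespace Cfsg.Agent.U62Aut

open Subgroup LargeExtra U62Rec.Model

universe u

variable {G : Type u} [Group G] [Finite G]

/-- The hypotheses at an involution. -/
structure CenAut (z : G) (F : Type*) [Field F] [Fintype F] : Prop where
  two : orderOf z = 2
  extra : Cfsg.IsExtraspecial 2 ↥(Cfsg.pCore 2 ↥(centralizer ({z} : Set G)))
  card : Nat.card ↥(Cfsg.pCore 2 ↥(centralizer ({z} : Set G))) = 2 ^ 9
  self : centralizer ((Cfsg.pCore 2 ↥(centralizer ({z} : Set G))) : Set ↥(centralizer ({z} : Set G))) ≤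
    Cfsg.pCore 2 ↥(centralizer ({z} : Set G))
  quot : Nonempty ((↥(centralizer ({z} : Set G)) ⧸ Cfsg.pCore 2 ↥(centralizer ({z} : Set G))) ≃*
    MulAut (Cfsg.PSp 2 F))

theorem CenAut.conj {z : G} {F : Type*} [Field F] [Fintype F] (K : CenAut z F) (g : G) :
    CenAut (g * z * g⁻¹) F := by
  obtain ⟨htwo, hext, hcard, hself, ⟨e⟩⟩ := K
  have hCm : (centralizer ({z} : Set G)).map (MulAut.conj g).toMonoidHom = centralizer {g * z * g⁻¹} := by
    ext x
    constructor
    · rintro ⟨y, hy, rfl⟩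
      exact mem_centralizer_one.2 (Commute.map (show Commute y z from mem_centralizer_one.1 hy) (MulAut.conj g)).eq
    · intro hx
      refine ⟨(MulAut.conj g).symm x, mem_centralizer_one.2 ?_, (MulAut.conj g).apply_symm_apply x⟩
      have h := Commute.map (show Commute x (g * z * g⁻¹) from mem_centralizer_one.1 hx) (MulAut.conj g).symm
      rw [show (MulAut.conj g).symm (g * z * g⁻¹) = z from (MulAut.conj g).symm_apply_apply z] at h
      exact h.eq
  let φ : ↥(centralizer ({z} : Set G)) ≃* ↥(centralizer ({g * z * g⁻¹} : Set G)) :=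
    (equivMapOfInjective _ (MulAut.conj g).toMonoidHom (MulAut.conj g).injective).trans
      (MulEquiv.subgroupCongr hCm)
  have hcore := PBasic.map_pCore_equiv (p := 2) φ
  let ψ : ↥(Cfsg.pCore 2 ↥(centralizer ({z} : Set G))) ≃* ↥(Cfsg.pCore 2 ↥(centralizer ({g * z * g⁻¹} : Set G))) :=
    (equivMapOfInjective _ φ.toMonoidHom φ.injective).trans (MulEquiv.subgroupCongr hcore)
  refine ⟨?_, Qd.isExtraspecial_congr ψ.symm hext, by rw [← Nat.card_congr ψ.toEquiv, hcard], fun c hc => ?_, ?_⟩
  · exact ((MulAut.conj g).orderOf_eq z).trans htwo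
  · obtain ⟨c, rfl⟩ := φ.surjective c
    rw [← hcore] at hc ⊢
    refine ⟨c, hself (mem_centralizer_iff.2 fun q hq => φ.injective ?_), rfl⟩
    rw [map_mul, map_mul]
    exact mem_centralizer_iff.1 hc (φ q) ⟨q, hq, rfl⟩
  · haveI : (Cfsg.pCore 2 ↥(centralizer ({z} : Set G))).Normal := Cfsg.pCore_normal 2 _
    haveI : (Cfsg.pCore 2 ↥(centralizer ({g * z * g⁻¹} : Set G))).Normal := Cfsg.pCore_normal 2 _
    exact ⟨(QuotientGroup.congr _ _ φ hcore).symm.trans e⟩

theorem CenAut.space {z : G} {F : Type*} [Field F] [Fintype F] (K : CenAut z F) (hF : Fintype.card F = 3) :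
    ∃ (V : Type u) (_ : AddCommGroup V), Nonempty (ASpace z V) :=
  haveI : (Cfsg.pCore 2 ↥(centralizer ({z} : Set G))).Normal := Cfsg.pCore_normal 2 _
  exists_aspace K.two hF K.extra K.card K.self K.quot.some

/-- The hypotheses give local coordinates or an isolated involution. -/
theorem CenAut.loc_or_isolated {z : G} {F : Type*} [Field F] [Fintype F] (K : CenAut z F) (hF : Fintype.card F = 3) :
    Nonempty (Loc geo z) ∨ Cfsg.IsIsolated z := by
  obtain ⟨V, iV, ⟨S⟩⟩ := K.space hF
  letI := iV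
  by_cases h : ∀ v, (∀ x, S.inn x v = v) → v = 0
  · exact Or.inl (S.exists_loc h)
  · push Not at h
    obtain ⟨v, hv, hv0⟩ := h
    exact Or.inr fun g hg => S.isolated ⟨v, hv0, hv⟩ g hg

theorem isolated_conj {z : G} {g : G} (h : Cfsg.IsIsolated (g * z * g⁻¹)) : Cfsg.IsIsolated z := by
  intro k hk
  have h' := h (g * k * g⁻¹)
  rw [show g * k * g⁻¹ * (g * z * g⁻¹) * (g * k * g⁻¹)⁻¹ = g * (k * z * k⁻¹) * g⁻¹ by group] at h'
  exact mul_left_cancel (mul_right_cancel (h' (hk.map (MulAut.conj g).toMonoidHom)))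

/-- Either almost the unitary group, or the centralizer covers the group modulo the odd core. -/
theorem main_end {z : G} {F : Type*} [Field F] [Fintype F] (K0 : CenAut z F) (hF : Fintype.card F = 3)
    {K : Type*} [Field K] [Fintype K] (hK : Fintype.card K = 4) :
    (∃ G₀ : Subgroup G, G₀.index = 2 ∧ Nonempty (↥G₀ ≃* Cfsg.PSU 6 K 2) ∧ centralizer (G₀ : Set G) = ⊥) ∨
      centralizer ({z} : Set G) ⊔ Cfsg.oddCore G = ⊤ := by
  classical
  by_cases hiso : Cfsg.IsIsolated z
  · exact Or.inr (McLTwoA8.sup_oddCore_of_isolated z K0.two hiso)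
  left
  let D : Set G := {x | ∃ g : G, g * z * g⁻¹ = x}
  have hloc : ∀ d ∈ D, Nonempty (Loc geo d) := by
    rintro _ ⟨g, rfl⟩
    exact ((K0.conj g).loc_or_isolated hF).resolve_right fun h => hiso (isolated_conj h)
  let Fm : Fam (G := G) geo :=
    { D := D
      conj_mem := by
        rintro g _ ⟨k, rfl⟩
        exact ⟨g * k, by group⟩
      isConj := by
        rintro _ ⟨g, rfl⟩ _ ⟨k, rfl⟩
        exact ⟨k * g⁻¹, by group⟩
      loc := fun d hd => (hloc d hd).some }
  have hnwc : ∀ d ∈ Fm.D, ∃ e, e ∈ nbr Fm.D d := by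
    rintro _ ⟨g, rfl⟩
    simp only [Cfsg.IsIsolated, not_forall] at hiso
    obtain ⟨k, hk, hne⟩ := hiso
    exact ⟨g * (k * z * k⁻¹) * g⁻¹, ⟨g * k, by group⟩, fun h => hne (mul_left_cancel (mul_right_cancel h)),
      hk.map (MulAut.conj g).toMonoidHom⟩
  let S := Fm.setting hnwc
  have hzD : z ∈ S.D := ⟨1, by group⟩
  have hcardD : S.D.ncard = 693 := Setting.card_D hzD
  have hC : Nat.card ↥(centralizer ({z} : Set G)) = 512 * 51840 := by
    obtain ⟨e⟩ := K0.quot
    rw [Subgroup.card_eq_card_quotient_mul_card_subgroup (Cfsg.pCore 2 ↥(centralizer ({z} : Set G))),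
      Nat.card_congr e.toEquiv, K0.card, S3342Id.card_mulAut_psp3 hF, S3342Id.card_psp_three hF]
    norm_num
  have hG : Nat.card G = 693 * 512 * 51840 := by
    have horb : MulAction.orbit (ConjAct G) z = S.D := by
      ext y
      rw [MulAction.mem_orbit_iff]
      constructor
      · rintro ⟨g, rfl⟩
        exact ⟨ConjAct.ofConjAct g, by rw [ConjAct.smul_def]⟩
      · rintro ⟨g, rfl⟩
        exact ⟨ConjAct.toConjAct g, by rw [ConjAct.smul_def, ConjAct.ofConjAct_toConjAct]⟩
    have h := MulAction.index_stabilizer (ConjAct G) z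
    rw [horb, hcardD] at h
    have hst : Nat.card (MulAction.stabilizer (ConjAct G) z) = Nat.card ↥(centralizer ({z} : Set G)) :=
      Nat.card_congr
        { toFun := fun g => ⟨ConjAct.ofConjAct (g : ConjAct G), mem_centralizer_one.2 (mul_inv_eq_iff_eq_mul.1
            (by rw [← ConjAct.smul_def]; exact g.2))⟩
          invFun := fun g => ⟨ConjAct.toConjAct (g : G), by
            rw [MulAction.mem_stabilizer_iff, ConjAct.smul_def, ConjAct.ofConjAct_toConjAct]
            exact mul_inv_eq_iff_eq_mul.2 (mem_centralizer_one.1 g.2)⟩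
          left_inv := fun g => rfl
          right_inv := fun g => rfl }
    have h2 := (MulAction.stabilizer (ConjAct G) z).card_mul_index
    rw [h, hst, hC] at h2
    rw [show Nat.card G = Nat.card (ConjAct G) from Nat.card_congr ConjAct.toConjAct.toEquiv, ← h2]
  obtain ⟨G₀, h2, ⟨φ⟩, hc⟩ := Setting.exists_psu (S := S) ⟨z, hzD⟩
    (fun d _ T hT hTC hTn => le_coreAt hT hTC hTn) hG
  obtain ⟨ψ⟩ := Leech.PairStab.psu_congr (E := RigidGraph.He.K4) (F := K)
    (FiniteField.ringEquivOfCardEq (by rw [hK, RigidGraph.He.K4.card_K4])) 6 2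
  exact ⟨G₀, h2, ⟨φ.trans ψ⟩, hc⟩

end Cfsg.Agent.U62Aut
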