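import Cfsg.Agent.Lib.U62Aut.Other

/-!
The members over one point: exactly four, the first times the products of `z` with the meet of the two cores.
-/

set_option autoImplicit false
set_option linter.style.haveILetI false
set_option linter.unusedSectionVars false
set_option linter.unusedVariables false

namespace Cfsg.Agent.U62Aut.Fam

open Subgroup LargeExtra
open scoped commutatorElement

variable {G : Type*} [Group G] [Finite G] {P : Type} [Fintype P] [DecidableEq P] {Γ : Geo P} (F : Fam (G := G) Γ)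
  {z t : G} {p : P}

theorem commutator_fibre (hz : z ∈ F.D) (ht : t ∈ nbr F.D z) (b c : G) :
    ⁅t, b⁆ = ⁅t, c⁆ ↔ Commute t (b⁻¹ * c) := by
  have e1 := F.conj_eq hz ht b
  have e2 := F.conj_eq hz ht c
  constructor
  · intro h
    have h' : b * t * b⁻¹ = c * t * c⁻¹ := by rw [e1, e2, h]
    show t * (b⁻¹ * c) = b⁻¹ * c * t
    calc t * (b⁻¹ * c) = b⁻¹ * (b * t * b⁻¹) * c := by group
      _ = b⁻¹ * c * t := by rw [h']; group
  · intro h
    refine mul_left_cancel (a := t) ?_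
    rw [← e1, ← e2]
    calc b * t * b⁻¹ = b * (t * (b⁻¹ * c)) * c⁻¹ := by group
      _ = c * t * c⁻¹ := by rw [h.eq]; group

/-- The facts on the fibre of a neighbour. -/
theorem fibre (hz : z ∈ F.D) (ht : t ∈ nbr F.D z) (hp : (F.loc z hz).perm t = Γ.tr p) :
    (∀ a ∈ coreAt z, (∀ r ∈ (F.loc z hz).rad p, Commute a r) → Commute t a) ∧
    coreAt z ⊓ coreAt t ≤ (F.loc z hz).rad p ∧ Nat.card ↥(coreAt z ⊓ coreAt t) = 4 ∧ z * t ∉ F.D ∧
    (∀ r ∈ coreAt z ⊓ coreAt t, r ≠ 1 → ∃ b ∈ coreAt z, b * t * b⁻¹ = t * (r * z)) := by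
  classical
  haveI := Fintype.ofFinite G
  obtain ⟨L, hL⟩ : ∃ L : Loc Γ z, L = F.loc z hz := ⟨_, rfl⟩
  rw [← hL] at hp ⊢
  obtain ⟨p', hp'⟩ := F.exists_tr ht.1 (F.nbr_symm hz ht)
  obtain ⟨L', hL'⟩ : ∃ L' : Loc Γ t, L' = F.loc t ht.1 := ⟨_, rfl⟩
  rw [← hL'] at hp'
  have hzt : Commute z t := ht.2.2
  have hrel : ∀ a ∈ coreAt z, (∀ r ∈ L.rad p, Commute a r) → ⁅t, a⁆ = 1 ∨ ⁅t, a⁆ = z := fun a ha h =>
    L.xs.toXSub.mem_zpowers_iff.1 ((L.tr_ker p t hzt hp ((F.sqD ht.1).symm ▸ one_mem _) a ha).2 h)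
  obtain ⟨C, hC⟩ : ∃ C, C = coreAt z ⊓ centralizer (L.rad p : Set G) := ⟨_, rfl⟩
  have hCmem : ∀ {a : G}, a ∈ C ↔ a ∈ coreAt z ∧ ∀ r ∈ L.rad p, Commute a r := fun {a} => by
    rw [hC, mem_inf, mem_centralizer_iff]
    exact ⟨fun h => ⟨h.1, fun r hr => (h.2 r hr).symm⟩, fun h => ⟨h.1, fun r hr => (h.2 r hr).symm⟩⟩
  have hCcard : Nat.card C = 128 := hC ▸ L.perp_card p
  obtain ⟨K, hK⟩ : ∃ K, K = coreAt z ⊓ centralizer {t} := ⟨_, rfl⟩
  have hKmem : ∀ {a : G}, a ∈ K ↔ a ∈ coreAt z ∧ Commute t a := fun {a} => by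
    rw [hK, mem_inf, mem_centralizer_one]; exact ⟨fun h => ⟨h.1, h.2.symm⟩, fun h => ⟨h.1, h.2.symm⟩⟩
  have hKC : K ≤ C := fun a ha => by
    obtain ⟨h1, h2⟩ := hKmem.1 ha
    exact hCmem.2 ⟨h1, (L.tr_ker p t hzt hp ((F.sqD ht.1).symm ▸ one_mem _) a h1).1 (by rw [commutatorElement_eq_one_iff_commute.2 h2]; exact one_mem _)⟩
  obtain ⟨R, hR⟩ : ∃ R, R = coreAt z ⊓ coreAt t := ⟨_, rfl⟩
  have hzR : z ∉ R := fun h => F.notMem' hz ht (hR ▸ h : z ∈ coreAt z ⊓ coreAt t).2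
  have hRK : R ≤ K := fun r hr => by
    have hr' : r ∈ coreAt z ⊓ coreAt t := hR ▸ hr
    exact hKmem.2 ⟨hr'.1, L'.comm hr'.2⟩
  have hcentral : ∀ r ∈ R, ∀ k ∈ K, Commute r k := by
    intro r hr k hk
    obtain ⟨hk1, hk2⟩ := hKmem.1 hk
    have hr' : r ∈ coreAt z ⊓ coreAt t := hR ▸ hr
    rcases L.xs.toXSub.conj_cases hk1 hr'.1 with e | e
    · exact (mul_inv_eq_iff_eq_mul.1 e).symm
    · exfalso
      have h2 := L'.conj_core hk2 hr'.2
      rw [e] at h2
      exact F.notMem' hz ht (by simpa using (coreAt t).mul_mem ((coreAt t).inv_mem hr'.2) h2)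
  -- the conjugates inside the coset
  obtain ⟨I, hI⟩ : ∃ I : Finset G, I = (coreAt z : Set G).toFinset.image fun b => ⁅t, b⁆ := ⟨_, rfl⟩
  have hImem : ∀ {x : G}, x ∈ I ↔ ∃ b ∈ coreAt z, ⁅t, b⁆ = x := fun {x} => by
    simp only [hI, Finset.mem_image, Set.mem_toFinset, SetLike.mem_coe]
  have hIcard : I.card * Nat.card K = 512 := by
    have h512 : (coreAt z : Set G).toFinset.card = 512 := by
      rw [← Set.ncard_eq_toFinset_card', ← Nat.card_coe_set_eq]; exact L.card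
    rw [← h512, Finset.card_eq_sum_card_image (fun b => ⁅t, b⁆) (coreAt z : Set G).toFinset, ← hI,
      Finset.sum_const_nat fun x hx => ?_]
    obtain ⟨b, hb, rfl⟩ := hImem.1 hx
    have e : (↑((coreAt z : Set G).toFinset.filter fun c => ⁅t, c⁆ = ⁅t, b⁆) : Set G) = (fun k => b * k) '' (K : Set G) := by
      ext c
      simp only [Finset.coe_filter, Set.mem_toFinset, SetLike.mem_coe, Set.mem_ofPred_eq, Set.mem_image]
      constructor
      · rintro ⟨hc, hcb⟩
        exact ⟨b⁻¹ * c, hKmem.2 ⟨(coreAt z).mul_mem ((coreAt z).inv_mem hb) hc,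
          (F.commutator_fibre hz ht b c).1 hcb.symm⟩, by group⟩
      · rintro ⟨k, hk, rfl⟩
        obtain ⟨h1, h2⟩ := hKmem.1 hk
        exact ⟨(coreAt z).mul_mem hb h1,
          ((F.commutator_fibre hz ht b (b * k)).2 (by rwa [inv_mul_cancel_left])).symm⟩
    rw [← Set.ncard_coe_finset, e, Set.ncard_image_of_injective _ (mul_right_injective b), ← Nat.card_coe_set_eq]
    rfl
  have hIrad : ∀ x ∈ I, x ∈ L.rad p := fun x hx => by
    obtain ⟨b, hb, rfl⟩ := hImem.1 hx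
    exact L.tr_comm_mem p t hzt hp ((F.sqD ht.1).symm ▸ one_mem _) b hb
  have hIR : ∀ x ∈ I, x ∈ R → x = 1 := fun x hx hxR => by
    obtain ⟨b, hb, rfl⟩ := hImem.1 hx
    exact F.commutator_one hz ht (hR ▸ hxR)
  have himg := L'.tr_small p' K (hK ▸ inf_le_right) ?_ ?_
  rotate_left
  · intro a ha
    rcases L.xs.toXSub.sq_cases (hKmem.1 ha).1 with e | e <;> rw [e]
    exacts [Or.inl L'.perm_one, Or.inr hp']
  · intro a ha
    obtain ⟨h1, h2⟩ := hKmem.1 ha
    show L'.perm a * Γ.tr p' = Γ.tr p' * L'.perm a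
    rw [← hp', ← L'.perm_mul _ _ h2 hzt.symm, ← L'.perm_mul _ _ hzt.symm h2, (L.comm h1).eq]
  have hKimg := L'.card_image (hK ▸ (coreAt_isPGroup z).to_le inf_le_left) fun a (ha : a ∈ K) => (hKmem.1 ha).2
  have hKR : K ⊓ coreAt t = R := le_antisymm
    (fun a ha => hR ▸ ⟨(hKmem.1 ha.1).1, ha.2⟩) fun a ha => ⟨hRK ha, (hR ▸ ha : a ∈ coreAt z ⊓ coreAt t).2⟩
  rw [hKR] at hKimg
  have hradC : ∀ a ∈ L.rad p, a ∈ C := fun a ha => hCmem.2 ⟨L.rad_le p ha, fun r hr => by
    have h1 := L.rad_sq p _ (mul_mem ha hr)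
    have ha2 := L.rad_sq p a ha
    have hr2 := L.rad_sq p r hr
    calc a * r = a * (a * r * (a * r)) * r := by rw [h1, mul_one]
      _ = a * a * (r * a) * (r * r) := by group
      _ = r * a := by rw [ha2, hr2, one_mul, mul_one]⟩
  by_cases hchi : ∃ a ∈ C, ⁅t, a⁆ = z
  · exfalso
    obtain ⟨a₀, ha₀, hz₀⟩ := hchi
    have ha₀K : a₀ ∉ K := fun h => by
      rw [commutatorElement_eq_one_iff_commute.2 (hKmem.1 h).2] at hz₀
      exact L.xs.toXSub.ne_one hz₀.symm
    have hset : (C : Set G) = (K : Set G) ∪ (fun a => a₀ * a) '' (K : Set G) := by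
      ext a
      simp only [Set.mem_union, Set.mem_image, SetLike.mem_coe]
      constructor
      · intro ha
        obtain ⟨h1, h2⟩ := hCmem.1 ha
        rcases hrel a h1 h2 with e | e
        · exact Or.inl (hKmem.2 ⟨h1, commutatorElement_eq_one_iff_commute.1 e⟩)
        · refine Or.inr ⟨a₀⁻¹ * a, hKmem.2 ⟨(coreAt z).mul_mem ((coreAt z).inv_mem (hCmem.1 ha₀).1) h1,
            (F.commutator_fibre hz ht a₀ a).1 (hz₀.trans e.symm)⟩, by group⟩
      · rintro (h | ⟨k, hk, rfl⟩)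
        exacts [hKC h, C.mul_mem ha₀ (hKC hk)]
    have hd : Disjoint (K : Set G) ((fun a => a₀ * a) '' (K : Set G)) := by
      rw [Set.disjoint_left]
      rintro a ha ⟨b, hb, rfl⟩
      exact ha₀K (by simpa using K.mul_mem ha (K.inv_mem hb))
    have hK64 : Nat.card K = 64 := by
      have h1 : (C : Set G).ncard = 128 := by rw [← Nat.card_coe_set_eq]; exact hCcard
      rw [hset, Set.ncard_union_eq hd, Set.ncard_image_of_injective _ (mul_right_injective a₀)] at h1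
      have h3 : (K : Set G).ncard = Nat.card K := (Nat.card_coe_set_eq (K : Set G)).symm
      omega
    have hI8 : ∀ x ∈ L.rad p, x ∈ I := by
      have h8 : (L.rad p : Set G).toFinset.card = 8 := by
        rw [← Set.ncard_eq_toFinset_card', ← Nat.card_coe_set_eq]; exact L.rad_card p
      have e := Finset.eq_of_subset_of_card_le (s := I) (t := (L.rad p : Set G).toFinset)
        (fun x hx => Set.mem_toFinset.2 (hIrad x hx)) (by rw [hK64] at hIcard; omega)
      intro x hx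
      rw [e, Set.mem_toFinset]; exact hx
    have hradK : ∀ x ∈ L.rad p, x ∈ K := by
      intro x hx
      obtain ⟨b, hb, rfl⟩ := hImem.1 (hI8 x hx)
      refine hKmem.2 ⟨L.rad_le p hx, ?_⟩
      have e : t * ⁅t, b⁆ * t⁻¹ = ⁅t, b⁆⁻¹ := by
        simp [commutatorElement_def, F.invD ht.1, mul_assoc, ← mul_assoc t t, F.sqD ht.1]
      rw [inv_eq_of_mul_eq_one_right (L.rad_sq p _ hx)] at e
      exact mul_inv_eq_iff_eq_mul.1 e
    have hRrad : ∀ r ∈ R, r ∈ L.rad p → r = 1 := fun r hr hrad => hIR r (hI8 r hrad) hr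
    have hanti : ∀ r ∈ R, r ≠ 1 → a₀ * r * a₀⁻¹ = r * z := fun r hr hr1 => by
      have hr' : r ∈ coreAt z ⊓ coreAt t := hR ▸ hr
      refine (L.xs.toXSub.conj_cases (hCmem.1 ha₀).1 hr'.1).resolve_left fun e => hr1 (hRrad r hr ?_)
      refine L.mem_rad_of hr'.1 fun b hb hbc => ?_
      have hbC : b ∈ (C : Set G) := hCmem.2 ⟨hb, hbc⟩
      rw [hset] at hbC
      rcases hbC with h | ⟨k, hk, rfl⟩
      · exact hcentral r hr b h
      · exact (mul_inv_eq_iff_eq_mul.1 e).symm.trans rfl |> fun h => (show Commute r a₀ from h).mul_right (hcentral r hr k hk)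
    have hR2 : Nat.card R ≤ 2 := by
      by_contra hlt
      have h3 : 2 < (R : Set G).ncard := by rw [← Nat.card_coe_set_eq]; exact not_le.1 hlt
      obtain ⟨r₁, hr₁, hr₁1⟩ := Set.exists_ne_of_one_lt_ncard (by omega : 1 < (R : Set G).ncard) 1
      obtain ⟨r₂, hr₂, hr₂1, hne⟩ : ∃ r₂ ∈ (R : Set G), r₂ ≠ 1 ∧ r₂ ≠ r₁ := by
        by_contra hc
        push Not at hc
        have h2 := Set.ncard_le_ncard (s := (R : Set G)) (t := {1, r₁}) (fun x hx => by
          by_cases h : x = 1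
          · exact Or.inl h
          · exact Or.inr (hc x hx h)) (Set.toFinite _)
        have := Set.ncard_pair (Ne.symm hr₁1)
        omega
      have hr' : r₁ ∈ coreAt z ⊓ coreAt t := hR ▸ hr₁
      have hr'' : r₂ ∈ coreAt z ⊓ coreAt t := hR ▸ hr₂
      have e : a₀ * (r₁ * r₂) * a₀⁻¹ = r₁ * r₂ := by
        calc a₀ * (r₁ * r₂) * a₀⁻¹ = (a₀ * r₁ * a₀⁻¹) * (a₀ * r₂ * a₀⁻¹) := by group
          _ = r₁ * r₂ := by
            rw [hanti r₁ hr₁ hr₁1, hanti r₂ hr₂ hr₂1, mul_assoc, ← mul_assoc z, (L.comm hr''.1).eq,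
              mul_assoc r₂, L.sq, mul_one]
      have hprod : r₁ * r₂ = 1 := by
        by_contra h12
        have h3 := hanti _ (R.mul_mem hr₁ hr₂) h12
        rw [e] at h3
        exact L.xs.toXSub.ne_mul_z _ h3
      exact hne ((eq_inv_of_mul_eq_one_right hprod).trans (inv_eq_of_mul_eq_one_right (F.core_inf_sq hz ht hr')))
    have hX : (L'.perm '' (K : Set G)).ncard = 32 := by
      have h1 := himg.1
      have h2 : 32 ≤ (L'.perm '' (K : Set G)).ncard := by
        have := Nat.mul_le_mul_left (L'.perm '' (K : Set G)).ncard hR2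
        omega
      omega
    have hmaps : ∀ x ∈ (L.rad p : Set G), L'.perm x ∈ ({1, Γ.tr p'} : Set (Equiv.Perm P)) := by
      intro x hx
      refine himg.2 hX x (hradK x hx) fun b hb => ?_
      have hbx : Commute x b := ((hCmem.1 (hKC hb)).2 x hx).symm
      show L'.perm x * L'.perm b = L'.perm b * L'.perm x
      rw [← L'.perm_mul _ _ (hKmem.1 (hradK x hx)).2 (hKmem.1 hb).2,
        ← L'.perm_mul _ _ (hKmem.1 hb).2 (hKmem.1 (hradK x hx)).2, hbx.eq]
    have hinj : Set.InjOn L'.perm (L.rad p : Set G) := by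
      intro x hx y hy e
      have hx' := (hKmem.1 (hradK x hx)).2
      have hy' := (hKmem.1 (hradK y hy)).2
      have h1 : x⁻¹ * y ∈ R := by
        have hxy := (coreAt z).mul_mem ((coreAt z).inv_mem (L.rad_le p hx)) (L.rad_le p hy)
        obtain ⟨k, hk⟩ := coreAt_isPGroup z ⟨x⁻¹ * y, hxy⟩
        have hk' : (x⁻¹ * y) ^ 2 ^ k = 1 := congrArg Subtype.val hk
        refine hR ▸ ⟨hxy, L'.ker_two _ (hx'.inv_right.mul_right hy') ?_ k (hk'.symm ▸ one_mem _)⟩
        rw [L'.perm_mul _ _ hx'.inv_right hy', ← e, ← L'.perm_mul _ _ hx'.inv_right hx', inv_mul_cancel, L'.perm_one]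
      exact inv_mul_eq_one.1 (hRrad _ h1 ((L.rad p).mul_mem ((L.rad p).inv_mem hx) hy))
    have h1 := Set.ncard_le_ncard_of_injOn _ hmaps hinj (Set.toFinite _)
    have h2 : (L.rad p : Set G).ncard = 8 := by rw [← Nat.card_coe_set_eq]; exact L.rad_card p
    have h3 := Set.ncard_insert_le (1 : Equiv.Perm P) {Γ.tr p'}
    rw [Set.ncard_singleton] at h3
    omega
  · push Not at hchi
    have hCK : C = K := le_antisymm (fun a ha => by
      obtain ⟨h1, h2⟩ := hCmem.1 ha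
      exact hKmem.2 ⟨h1, commutatorElement_eq_one_iff_commute.1 ((hrel a h1 h2).resolve_right (hchi a ha))⟩) hKC
    rw [← hCK, hCcard] at hIcard
    rw [← hCK, hCcard] at hKimg
    have himg1 : (L'.perm '' (C : Set G)).ncard ≤ 32 := hCK ▸ himg.1
    have hRrad : R ≤ L.rad p := fun r hr => L.mem_rad_of (hR ▸ hr : r ∈ coreAt z ⊓ coreAt t).1
      fun b hb hbc => hcentral r hr b (hCK ▸ hCmem.2 ⟨hb, hbc⟩)
    have hR4 : 4 ≤ Nat.card R := by
      have := Nat.mul_le_mul_right (Nat.card R) himg1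
      omega
    have hrad8 : (L.rad p : Set G).ncard = 8 := by rw [← Nat.card_coe_set_eq]; exact L.rad_card p
    have hRn : (R : Set G).ncard = Nat.card R := (Nat.card_coe_set_eq (R : Set G)).symm
    have hdisj : Disjoint (R : Set G) ((fun r => r * z) '' (R : Set G)) := by
      rw [Set.disjoint_left]
      rintro a ha ⟨b, hb, rfl⟩
      exact hzR (by simpa using R.mul_mem (R.inv_mem hb) ha)
    have hsub : (R : Set G) ∪ (fun r => r * z) '' (R : Set G) ⊆ (L.rad p : Set G) := by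
      rintro a (ha | ⟨b, hb, rfl⟩)
      exacts [hRrad ha, (L.rad p).mul_mem (hRrad hb) (L.z_mem_rad p)]
    have hle := Set.ncard_le_ncard hsub (Set.toFinite _)
    rw [Set.ncard_union_eq hdisj, Set.ncard_image_of_injective _ (mul_left_injective z), hrad8] at hle
    have hRc : Nat.card R = 4 := by omega
    have hradeq : (R : Set G) ∪ (fun r => r * z) '' (R : Set G) = (L.rad p : Set G) := by
      refine Set.eq_of_subset_of_ncard_le hsub ?_ (Set.toFinite _)
      rw [Set.ncard_union_eq hdisj, Set.ncard_image_of_injective _ (mul_left_injective z), hrad8]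
      omega
    have hzI : z ∉ I := fun h => by
      obtain ⟨b, hb, e⟩ := hImem.1 h
      have hbC : b ∈ C := hCmem.2 ⟨hb, (L.tr_ker p t hzt hp ((F.sqD ht.1).symm ▸ one_mem _) b hb).1 (e ▸ mem_zpowers z)⟩
      exact hchi b hbC e
    have h1I : (1 : G) ∈ I := hImem.2 ⟨1, one_mem _, by simp⟩
    obtain ⟨T, hT⟩ : ∃ T : Finset G, T = ((R : Set G).toFinset.erase 1).image fun r => r * z := ⟨_, rfl⟩
    have hsubT : I.erase 1 ⊆ T := by
      intro x hx
      obtain ⟨hx1, hxI⟩ := Finset.mem_erase.1 hx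
      have hxr : x ∈ (L.rad p : Set G) := hIrad x hxI
      rw [← hradeq] at hxr
      rcases hxr with h | ⟨r, hr, rfl⟩
      · exact absurd (hIR x hxI h) hx1
      · rw [hT, Finset.mem_image]
        exact ⟨r, Finset.mem_erase.2 ⟨fun e => hzI (by simpa [e] using hxI), Set.mem_toFinset.2 hr⟩, rfl⟩
    have hTcard : T.card ≤ 3 := by
      rw [hT]
      refine le_trans Finset.card_image_le ?_
      rw [Finset.card_erase_of_mem (Set.mem_toFinset.2 (R.one_mem)), ← Set.ncard_eq_toFinset_card', hRn, hRc]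
    have heq : I.erase 1 = T := Finset.eq_of_subset_of_card_le hsubT (by
      rw [Finset.card_erase_of_mem h1I]; omega)
    have hsib : ∀ r ∈ R, r ≠ 1 → ∃ b ∈ coreAt z, b * t * b⁻¹ = t * (r * z) := by
      intro r hr hr1
      have : r * z ∈ I.erase 1 := heq ▸ hT ▸ Finset.mem_image.2 ⟨r, Finset.mem_erase.2 ⟨hr1, Set.mem_toFinset.2 hr⟩, rfl⟩
      obtain ⟨b, hb, e⟩ := hImem.1 (Finset.mem_of_mem_erase this)
      exact ⟨b, hb, by rw [F.conj_eq hz ht b, e]⟩
    refine ⟨fun a ha h => (hKmem.1 (hCK ▸ hCmem.2 ⟨ha, h⟩)).2, hR ▸ hRrad, hR ▸ hRc, ?_, hR ▸ hsib⟩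
    intro hD
    rw [hzt.eq] at hD
    obtain ⟨r, hr, hr1⟩ := Set.exists_ne_of_one_lt_ncard (by omega : 1 < (R : Set G).ncard) 1
    obtain ⟨b, hb, e⟩ := hsib r hr hr1
    rw [F.conj_eq hz ht b] at e
    have e' : ⁅t, b⁆ * z = r := by rw [mul_left_cancel e, mul_assoc, L.sq, mul_one]
    exact hr1 (e' ▸ F.commutator_z hz ht hb hD (hR ▸ e' ▸ hr))

/-- The members over the same point. -/
theorem lift {t' : G} (hz : z ∈ F.D) (ht : t ∈ nbr F.D z) (hp : (F.loc z hz).perm t = Γ.tr p)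
    (ht' : t' ∈ nbr F.D z) (hp' : (F.loc z hz).perm t' = Γ.tr p) :
    t' = t ∨ ∃ r ∈ coreAt z ⊓ coreAt t, r ≠ 1 ∧ t' = t * (r * z) := by
  classical
  obtain ⟨hc, hRle, hR4, hzt, -⟩ := F.fibre hz ht hp
  obtain ⟨hc', -⟩ := F.fibre hz ht' hp'
  obtain ⟨L, hL⟩ : ∃ L : Loc Γ z, L = F.loc z hz := ⟨_, rfl⟩
  rw [← hL] at hp hp' hc hc' hRle
  have hj : t * t' ∈ coreAt z := pow_one (t * t') ▸ L.ker_tr p p t t' ht.2.2 ht'.2.2 hp hp'
    ((F.sqD ht.1).symm ▸ one_mem _) ((F.sqD ht'.1).symm ▸ one_mem _) 1 (by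
      rw [pow_one, L.perm_mul _ _ ht.2.2 ht'.2.2, hp', hp, Γ.tr_sq])
  have hcj : ⁅t, t * t'⁆ ∈ zpowers z := by
    have e : ⁅t, t * t'⁆ = ((t * t') * (t * t'))⁻¹ := by
      simp [commutatorElement_def, F.invD ht.1, F.invD ht'.1, mul_assoc, ← mul_assoc t t, F.sqD ht.1]
    rw [e]
    refine inv_mem ?_
    rcases L.xs.toXSub.sq_cases hj with h | h <;> rw [h]
    exacts [one_mem _, mem_zpowers z]
  have hjrad : t * t' ∈ L.rad p := L.mem_rad_of hj fun b hb hbc => ((hc b hb hbc).mul_left (hc' b hb hbc))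
  have hinf : ∀ r ∈ coreAt z ⊓ coreAt t, r * z ∉ coreAt z ⊓ coreAt t := fun r hr h =>
    F.notMem' hz ht (by simpa using ((coreAt t).mul_mem ((coreAt t).inv_mem hr.2) h.2))
  have hcase : t * t' ∈ coreAt z ⊓ coreAt t ∨ t * t' * z ∈ coreAt z ⊓ coreAt t := by
    by_contra hn
    push Not at hn
    have hd : Disjoint ((coreAt z ⊓ coreAt t : Subgroup G) : Set G)
        ((fun r => r * z) '' ((coreAt z ⊓ coreAt t : Subgroup G) : Set G)) := by
      rw [Set.disjoint_left]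
      rintro a ha ⟨b, hb, rfl⟩
      exact hinf b hb ha
    have hR' : ((coreAt z ⊓ coreAt t : Subgroup G) : Set G).ncard = 4 := by rw [← Nat.card_coe_set_eq]; exact hR4
    have hsub : insert (t * t') (((coreAt z ⊓ coreAt t : Subgroup G) : Set G) ∪
        (fun r => r * z) '' ((coreAt z ⊓ coreAt t : Subgroup G) : Set G)) ⊆ (L.rad p : Set G) := by
      rintro a (rfl | ha | ⟨b, hb, rfl⟩)
      exacts [hjrad, hRle ha, (L.rad p).mul_mem (hRle hb) (L.z_mem_rad p)]
    have h1 := Set.ncard_le_ncard hsub (Set.toFinite _)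
    have h8 : (L.rad p : Set G).ncard = 8 := by rw [← Nat.card_coe_set_eq]; exact L.rad_card p
    rw [Set.ncard_insert_of_notMem, Set.ncard_union_eq hd, Set.ncard_image_of_injective _ (mul_left_injective z),
      hR', h8] at h1
    · omega
    · rintro (h | ⟨b, hb, e⟩)
      · exact hn.1 h
      · refine hn.2 ?_
        rw [← e]
        simpa [mul_assoc, L.sq] using hb
  have ht'eq : t' = t * (t * t') := by rw [← mul_assoc, F.sqD ht.1, one_mul]
  rcases hcase with h | h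
  · left
    rw [ht'eq, F.core_inf_one hz ht h (ht'eq ▸ ht'.1), mul_one]
  · by_cases h1 : t * t' * z = 1
    · exfalso
      refine hzt ?_
      have : t * t' = z := by
        calc t * t' = t * t' * z * z := by rw [mul_assoc, L.sq, mul_one]
          _ = z := by rw [h1, one_mul]
      rw [ht.2.2.eq, ← this, ← ht'eq]
      exact ht'.1
    · exact Or.inr ⟨_, h, h1, by rw [mul_assoc (t * t'), L.sq, mul_one, ← ht'eq]⟩

end Cfsg.Agent.U62Aut.Fam
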