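import Cfsg.Agent.Lib.U62Aut.Twins
import Cfsg.Agent.Lib.FischerTwins.Final
import Cfsg.Agent.Lib.FischerClass.Defs
import Cfsg.Agent.Lib.FischerPresented.U62Model
import Cfsg.Agent.S5361
import Cfsg.Agent.S0280

/-!
In the setting, the class generates a subgroup isomorphic to the projective unitary group in dimension six
over four elements with trivial centralizer.
-/

set_option autoImplicit false
set_option linter.style.haveILetI false
set_option linter.unusedSectionVars false
set_option maxRecDepth 20000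

namespace Cfsg.Agent.U62Aut.Setting

open Subgroup
open Cfsg.Agent.FischerTwins (Hyp Line perp2 Twin)
open Cfsg.Agent.Fischer.LocalSymThree (nb)
open Cfsg.Agent.RigidGraph.He (K4)

universe u

variable {G : Type u} [Group G] [Finite G] {P : Type} [Fintype P] [DecidableEq P] {S : Setting G P}
  {a b c d e f g x y z : G} {p q : P}

/-- The subgroup generated by the class. -/
def gen (S : Setting G P) : Subgroup G := Subgroup.closure S.D

theorem gen_normal (S : Setting G P) : S.gen.Normal := by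
  refine ⟨fun n hn g => ?_⟩
  induction hn using Subgroup.closure_induction with
  | mem y hy => exact Subgroup.subset_closure (S.conj_mem g y hy)
  | one => simp
  | mul y w _ _ h h' =>
    rw [show g * (y * w) * g⁻¹ = g * y * g⁻¹ * (g * w * g⁻¹) by group]
    exact mul_mem h h'
  | inv y _ h =>
    rw [show g * y⁻¹ * g⁻¹ = (g * y * g⁻¹)⁻¹ by group]
    exact inv_mem h

theorem mem_gen (hd : d ∈ S.D) : d ∈ S.gen := Subgroup.subset_closure hd

/-- The class in that subgroup. -/
def cls (S : Setting G P) : Set S.gen := {y | (y : G) ∈ S.D}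

/-- A member as a member of that class. -/
def toGen (hd : d ∈ S.D) : S.gen := ⟨d, mem_gen hd⟩

theorem commute_coe {y w : S.gen} : Commute y w ↔ Commute (y : G) (w : G) :=
  ⟨fun h => congrArg Subtype.val h, fun h => Subtype.ext h⟩

theorem nb_coe {y w : S.gen} : w ∈ nb S.cls y ↔ (w : G) ∈ nbr S.D y :=
  ⟨fun h => ⟨h.1, fun e => h.2.1 (Subtype.ext e), commute_coe.1 h.2.2⟩,
    fun h => ⟨h.1, fun e => h.2.1 (congrArg Subtype.val e), commute_coe.2 h.2.2⟩⟩

theorem cls_top (S : Setting G P) : Subgroup.closure S.cls = ⊤ := by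
  have h : (Subgroup.closure S.cls).map S.gen.subtype = (⊤ : Subgroup S.gen).map S.gen.subtype := by
    rw [MonoidHom.map_closure, ← MonoidHom.range_eq_map, S.gen.range_subtype]
    refine congrArg Subgroup.closure (Set.ext fun y => ⟨fun ⟨w, hw, e⟩ => e ▸ hw, fun hy => ⟨toGen hy, hy, rfl⟩⟩)
  exact Subgroup.map_injective S.gen.subtype_injective h

theorem conj_far (ha : a ∈ S.D) (hb : b ∈ S.D) (h : ¬ Commute a b) : ∃ g ∈ S.gen, g * a * g⁻¹ = b := by
  have h3 : (a * b) * (a * b) * (a * b) = 1 := by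
    rw [← (near_all ha hb).pow_three h]; simp [pow_succ]
  have e4 : (a * b)⁻¹ = a * b * (a * b) := inv_eq_of_mul_eq_one_left h3
  refine ⟨a * b, mul_mem (mem_gen ha) (mem_gen hb), ?_⟩
  rw [e4, show a * b * a * (a * b * (a * b)) = a * b * ((a * a) * (b * (a * b))) by group, S.sq ha, one_mul,
    show a * b * (b * (a * b)) = a * (b * b) * a * b by group, S.sq hb, mul_one, S.sq ha, one_mul]

theorem conj_all (ha : a ∈ S.D) (hb : b ∈ S.D) : ∃ g ∈ S.gen, g * a * g⁻¹ = b := by
  classical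
  by_cases h : Commute a b
  · obtain ⟨c, hc, hca, hcb⟩ : ∃ c ∈ S.D, ¬ Commute a c ∧ ¬ Commute c b := by
      by_contra hcon
      push Not at hcon
      have hsub : S.D ⊆ insert a (nbr S.D a) ∪ insert b (nbr S.D b) := fun c hc => by
        by_cases h1 : Commute a c
        · exact Or.inl ((em (c = a)).elim Or.inl fun hne => Or.inr ⟨hc, hne, h1⟩)
        · exact Or.inr ((em (c = b)).elim Or.inl fun hne => Or.inr ⟨hc, hne, (hcon c hc h1).symm⟩)
      have h1 := (Set.ncard_le_ncard hsub (Set.toFinite _)).trans (Set.ncard_union_le _ _)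
      have h2 := Set.ncard_insert_le a (nbr S.D a)
      have h3 := Set.ncard_insert_le b (nbr S.D b)
      rw [S.card_nbr ha] at h2
      rw [S.card_nbr hb] at h3
      rw [card_D ha] at h1
      omega
    obtain ⟨g, hg, e⟩ := conj_far ha hc hca
    obtain ⟨k, hk, e'⟩ := conj_far hc hb hcb
    exact ⟨k * g, mul_mem hk hg, by rw [← e', ← e]; group⟩
  · exact conj_far ha hb h

theorem trans_cls (S : Setting G P) : ∀ y ∈ S.cls, ∀ w ∈ S.cls, ∃ g : S.gen, g * y * g⁻¹ = w := by
  intro y hy w hw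
  obtain ⟨g, hg, e⟩ := conj_all (S := S) (a := (y : G)) hy hw
  exact ⟨⟨g, hg⟩, Subtype.ext e⟩

theorem class_cls (hne : S.D.Nonempty) : Cfsg.IsThreeTranspositionClass S.cls := by
  refine ⟨⟨fun y hy => ?_, fun y hy w hw => ?_⟩, ?_, cls_top S⟩
  · rw [← Subgroup.orderOf_coe]
    exact S.invol _ hy
  · by_cases hc : Commute (y : G) (w : G)
    · refine Or.inl (Subtype.ext ?_)
      push_cast
      rw [hc.mul_pow, pow_two, pow_two, S.sq hy, S.sq hw, one_mul]
    · refine Or.inr (Subtype.ext ?_)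
      push_cast
      exact (near_all hy hw).pow_three hc
  · obtain ⟨d, hd⟩ := hne
    refine ⟨toGen hd, hd, Set.ext fun w => ⟨fun hw => ?_, fun hw => ?_⟩⟩
    · obtain ⟨g, e⟩ := trans_cls S (toGen hd) hd w hw
      exact (isConj_iff.2 ⟨g, e⟩ : IsConj _ w)
    · obtain ⟨g, rfl⟩ := isConj_iff.1 (hw : IsConj _ w)
      exact S.conj_mem g d hd

theorem center_gen (hne : S.D.Nonempty) : center S.gen = ⊥ := by
  refine (Subgroup.eq_bot_iff_forall _).2 fun y hy => Subtype.ext ?_
  exact centralize_trivial hne fun e he => commute_coe.1 (mem_center_iff.1 hy (toGen he) : Commute (toGen he) y)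

theorem centralizer_gen (hne : S.D.Nonempty) : centralizer (S.gen : Set G) = ⊥ :=
  (Subgroup.eq_bot_iff_forall _).2 fun _ hy =>
    centralize_trivial hne fun e he => mem_centralizer_iff.1 hy e (mem_gen he)

theorem pCore_gen (hne : S.D.Nonempty)
    (hcore : ∀ d ∈ S.D, ∀ T : Subgroup G, IsPGroup 2 T → T ≤ centralizer ({d} : Set G) →
      centralizer ({d} : Set G) ≤ normalizer (T : Set G) → T ≤ S.J d) :
    Cfsg.pCore 2 S.gen = ⊥ ∧ Cfsg.pCore 3 S.gen = ⊥ := by
  haveI : Fact (Nat.Prime 2) := ⟨Nat.prime_two⟩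
  haveI : Fact (Nat.Prime 3) := ⟨Nat.prime_three⟩
  haveI := gen_normal S
  have hN : ∀ r : ℕ, ((Cfsg.pCore r S.gen).map S.gen.subtype).Normal := fun r => by
    haveI : (Cfsg.pCore r S.gen).Characteristic := PBasic.pCore_characteristic r S.gen
    infer_instance
  constructor
  · haveI := hN 2
    have h := two_normal hne hcore ((Cfsg.pCore 2 S.gen).map S.gen.subtype) ((PBasic.pCore_isPGroup 2 S.gen).map _)
    exact (map_eq_bot_iff_of_injective _ S.gen.subtype_injective).1 h
  · haveI := hN 3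
    have h := odd_normal hne ((Cfsg.pCore 3 S.gen).map S.gen.subtype) (by
      obtain ⟨k, hk⟩ := IsPGroup.iff_card.1 ((PBasic.pCore_isPGroup 3 S.gen).map S.gen.subtype)
      rw [hk]
      exact (by decide : Odd 3).pow)
    exact (map_eq_bot_iff_of_injective _ S.gen.subtype_injective).1 h

theorem connected_cls (hne : S.D.Nonempty) : (Cfsg.commutingGraph S.cls).Connected := by
  haveI : Nonempty S.cls := ⟨⟨toGen hne.some_mem, hne.some_mem⟩⟩
  have one : ∀ u v : S.cls, Commute ((u : S.gen) : G) ((v : S.gen) : G) →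
      (Cfsg.commutingGraph S.cls).Reachable u v := fun u v h => by
    by_cases huv : u = v
    · exact huv ▸ SimpleGraph.Reachable.refl u
    · exact SimpleGraph.Adj.reachable ((SimpleGraph.fromRel_adj _ _ _).2 ⟨huv, Or.inl (commute_coe.2 h)⟩)
  refine SimpleGraph.Connected.mk fun u v => ?_
  obtain ⟨-, -, c, hc, h1, h2⟩ := near_all (S := S) u.2 v.2
  exact (one u ⟨toGen hc, hc⟩ h1).trans (one ⟨toGen hc, hc⟩ v h2)

theorem pt_iff (hd : d ∈ S.D) (ha : a ∈ nbr S.D d) (hb : b ∈ nbr S.D d) :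
    S.pt d b = S.pt d a ↔ ∀ w ∈ nbr S.D d, (Commute a w ↔ Commute b w) := by
  refine ⟨fun h w hw => by rw [S.commute_iff hd ha hw, S.commute_iff hd hb hw, h], fun h => ?_⟩
  refine (eq_of_sub (S := S) hd fun s hs => ?_).symm
  obtain ⟨w, hw, rfl⟩ := exists_over hd s
  have h1 := (S.commute_iff hd hb hw).1 ((h w hw).1 ((S.commute_iff hd ha hw).2 (hs.imp_left Eq.symm)))
  exact h1.imp_left Eq.symm

theorem twin_iff {y a' v' : S.gen} (hy : y ∈ S.cls) (ha : a' ∈ nb S.cls y) :
    Twin S.cls y a' v' ↔ (v' : G) ∈ nbr S.D y ∧ S.pt (y : G) v' = S.pt (y : G) a' := by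
  constructor
  · intro h
    refine ⟨nb_coe.1 h.1, (pt_iff hy (nb_coe.1 ha) (nb_coe.1 h.1)).2 fun w hw => ?_⟩
    have := h.2 (toGen hw.1) (nb_coe.2 hw)
    rwa [commute_coe, commute_coe] at this
  · intro h
    refine ⟨nb_coe.2 h.1, fun w hw => ?_⟩
    rw [commute_coe, commute_coe]
    exact (pt_iff hy (nb_coe.1 ha) h.1).1 h.2 w (nb_coe.1 hw)

theorem hyp_cls (hne : S.D.Nonempty)
    (hcore : ∀ d ∈ S.D, ∀ T : Subgroup G, IsPGroup 2 T → T ≤ centralizer ({d} : Set G) →
      centralizer ({d} : Set G) ≤ normalizer (T : Set G) → T ≤ S.J d) : Hyp S.cls := by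
  classical
  have hD := class_cls hne
  have hz := center_gen hne
  obtain ⟨h2, h3⟩ := pCore_gen hne hcore
  have hconn := connected_cls hne
  have hw : ∃ a ∈ S.cls, ∃ b ∈ S.cls, a ≠ b ∧ Commute a b := by
    obtain ⟨b, hb, -⟩ := exists_over hne.some_mem (S.pt hne.some hne.some)
    exact ⟨toGen hne.some_mem, hne.some_mem, toGen hb.1, hb.1, fun h => hb.2.1 (congrArg Subtype.val h).symm,
      commute_coe.2 hb.2.2⟩
  have hstd : Cfsg.Agent.FischerClass.Std S.cls :=
    ⟨Cfsg.Agent.Fischer.TClass.toGroup hD, ((S5361.result hD hz hw).2).2 ⟨h2, h3, hconn⟩, hz, hw⟩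
  refine ⟨hstd.ctx, hz, hconn, fun y hy => ?_, fun y hy a' ha => ?_, fun y hy a' v' ha hv b' hb => ?_,
    fun y hy a' ha => ?_⟩
  · obtain ⟨b, hb, -⟩ := exists_over (S := S) hy (S.pt (y : G) y)
    exact ⟨toGen hb.1, nb_coe.2 hb⟩
  · obtain ⟨v, hv, hva, hvp⟩ := exists_other (S := S) hy (a' : G) (S.pt (y : G) a')
    exact ⟨toGen hv.1, fun h => hva (congrArg Subtype.val h), (twin_iff hy ha).2 ⟨hv, hvp⟩⟩
  · obtain ⟨hv1, hv2⟩ := (twin_iff hy ha).1 hv
    have ha' := nb_coe.1 ha
    have hb' := nb_coe.1 hb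
    have hc : Commute (y : G) ((a' : G) * v') := ha'.2.2.mul_right hv1.2.2
    refine (twin_iff hy hb).2 ⟨?_, ?_⟩
    · push_cast
      exact S.nbr_conj' hc hb'
    · push_cast
      rw [S.pt_conj _ hy _ hc _ hb', S.perm_mul _ hy _ _ ha'.2.2 hv1.2.2, S.perm_nbr _ hy _ ha',
        S.perm_nbr _ hy _ hv1, hv2, S.tr_sq, Equiv.Perm.one_apply]
  · have e : (fun w : S.gen => (w : G)) '' {v | Twin S.cls y a' v} =
        {w | w ∈ nbr S.D (y : G) ∧ S.pt (y : G) w = S.pt (y : G) a'} := by
      ext w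
      constructor
      · rintro ⟨v, hv, rfl⟩
        exact (twin_iff hy ha).1 hv
      · exact fun h => ⟨toGen h.1.1, (twin_iff hy ha).2 h, rfl⟩
    rw [← Set.ncard_image_of_injective _ Subtype.val_injective, e, S.fibre_card _ hy]
    exact ⟨2, rfl⟩

theorem line_cls : ∀ y ∈ S.cls, ∀ w ∈ nb S.cls y, (Line S.cls y w).ncard = 5 := by
  intro y hy w hw
  have hw' := nb_coe.1 hw
  have e : (fun v : S.gen => (v : G)) '' Line S.cls y w =
      insert (y : G) {v | v ∈ nbr S.D (y : G) ∧ S.pt (y : G) v = S.pt (y : G) w} := by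
    ext v
    constructor
    · rintro ⟨v, ⟨hv, hall⟩, rfl⟩
      by_cases hvy : v = y
      · exact Or.inl (congrArg Subtype.val hvy)
      have hv' : (v : G) ∈ nbr S.D y := nb_coe.1 ⟨hv, hvy, hall y ⟨hy, Commute.refl y, hw.2.2⟩⟩
      refine Or.inr ⟨hv', ?_⟩
      refine (eq_of_sub (S := S) hy fun s hs => ?_).symm
      obtain ⟨u, hu, rfl⟩ := exists_over (S := S) hy s
      have hcu := hall (toGen hu.1) ⟨hu.1, commute_coe.2 hu.2.2.symm,
        commute_coe.2 ((S.commute_iff hy hw' hu).2 (hs.imp_left Eq.symm)).symm⟩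
      exact ((S.commute_iff hy hv' hu).1 (commute_coe.1 hcu).symm).imp_left Eq.symm
    · rintro (rfl | ⟨hv, hvp⟩)
      · exact ⟨y, ⟨hy, fun u hu => hu.2.1⟩, rfl⟩
      · refine ⟨toGen hv.1, ⟨hv.1, fun u hu => ?_⟩, rfl⟩
        by_cases huy : u = y
        · subst huy
          exact commute_coe.2 hv.2.2
        · have hu' : (u : G) ∈ nbr S.D y := nb_coe.1 ⟨hu.1, huy, hu.2.1.symm⟩
          have := (pt_iff hy hw' hv).1 hvp u hu'
          exact commute_coe.2 (this.1 (commute_coe.1 hu.2.2).symm).symm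
  rw [← Set.ncard_image_of_injective _ Subtype.val_injective, e, Set.ncard_insert_of_notMem, S.fibre_card _ hy]
  exact fun h => h.1.2.1 rfl

theorem k4_sq : Fintype.card K4 = 2 ^ 2 := by decide

/-- Among the unitary groups over four elements, only dimension six has the size. -/
theorem dim_six (n : ℕ) (h693 : 693 ∣ Nat.card (Cfsg.PSU n K4 2))
    (hle : Nat.card (Cfsg.PSU n K4 2) ≤ 693 * 512 * 155520) : n = 6 := by
  have hpos : 0 < Nat.card (Cfsg.PSU n K4 2) := Nat.card_pos
  by_cases h2 : n < 2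
  · have h1 : Nat.card (Cfsg.PSU n K4 2) = 1 := by
      haveI : Subsingleton (Matrix.SpecialLinearGroup (Fin n) K4) := by
        refine ⟨fun A B => Subtype.ext ?_⟩
        interval_cases n
        · ext i; exact i.elim0
        · have hA : A.1.det = 1 := A.2
          have hB : B.1.det = 1 := B.2
          rw [Matrix.det_fin_one] at hA hB
          ext i j
          rw [Subsingleton.elim i 0, Subsingleton.elim j 0, hA, hB]
      haveI : Subsingleton ↥(Cfsg.SU n K4 2) := ⟨fun A B => Subtype.ext (Subsingleton.elim _ _)⟩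
      haveI : Subsingleton (Cfsg.PSU n K4 2) :=
        Function.Surjective.subsingleton (QuotientGroup.mk_surjective (s := Subgroup.center ↥(Cfsg.SU n K4 2)))
      exact Nat.card_unique
    rw [h1] at h693
    omega
  push Not at h2
  have h := S0280.result (F := K4) (q := 2) k4_sq n h2
  by_contra hn6
  rcases Nat.lt_or_ge n 9 with h9 | h9
  · interval_cases n
    all_goals
      simp only [Finset.prod_range_succ, Finset.prod_range_zero] at h
      norm_num [Nat.even_iff, Nat.gcd_comm] at h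
      omega
  · have hg : Nat.gcd n (2 + 1) ≤ 3 := Nat.le_of_dvd (by norm_num) (Nat.gcd_dvd_right n _)
    have hprod : 9 ≤ ∏ i ∈ Finset.range n, (if Even i then 2 ^ (i + 1) + 1 else 2 ^ (i + 1) - 1) := by
      have hpos' : ∀ i ∈ Finset.range n, i ∉ Finset.range 2 →
          1 ≤ (if Even i then 2 ^ (i + 1) + 1 else 2 ^ (i + 1) - 1) := fun i _ _ => by
        have := Nat.one_lt_two_pow (n := i + 1) (by omega)
        split_ifs <;> omega
      exact le_trans (le_of_eq (by decide))
        (Finset.prod_le_prod_of_subset_of_one_le' (Finset.range_subset_range.2 (by omega : 2 ≤ n)) hpos')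
    have hexp : 2 ^ 36 ≤ 2 ^ (n * (n - 1) / 2) := Nat.pow_le_pow_right (by norm_num) (by
      have : 9 * 8 ≤ n * (n - 1) := Nat.mul_le_mul h9 (by omega)
      omega)
    have h1 := Nat.mul_le_mul hexp hprod
    have h2' := Nat.mul_le_mul hg (Nat.mul_le_mul (le_refl 3) hle)
    norm_num at h h1 h2'
    omega

/-- The class generates the unitary group, in a group of bounded order. -/
theorem gen_psu (hne : S.D.Nonempty)
    (hcore : ∀ d ∈ S.D, ∀ T : Subgroup G, IsPGroup 2 T → T ≤ centralizer ({d} : Set G) →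
      centralizer ({d} : Set G) ≤ normalizer (T : Set G) → T ≤ S.J d)
    (hG : Nat.card G ≤ 693 * 512 * 155520) :
    Nonempty (S.gen ≃* Cfsg.PSU 6 K4 2) ∧ centralizer (S.gen : Set G) = ⊥ := by
  classical
  obtain ⟨n, ⟨φ⟩⟩ := (hyp_cls hne hcore).unitary line_cls ⟨toGen hne.some_mem, hne.some_mem⟩
  have hcard : Nat.card S.gen = Nat.card (Cfsg.PSU n K4 2) := Nat.card_congr φ.toEquiv
  have hle : Nat.card (Cfsg.PSU n K4 2) ≤ 693 * 512 * 155520 :=
    hcard ▸ (Nat.le_of_dvd Nat.card_pos S.gen.card_subgroup_dvd_card).trans hG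
  have h693 : 693 ∣ Nat.card (Cfsg.PSU n K4 2) := by
    letI : MulAction S.gen G :=
      { smul := fun g y => (g : G) * y * (g : G)⁻¹
        one_smul := fun y => show (1 : G) * y * (1 : G)⁻¹ = y by simp
        mul_smul := fun g k y => show (g : G) * k * y * ((g : G) * k)⁻¹ = g * (k * y * (k : G)⁻¹) * (g : G)⁻¹ by group }
    have horb : MulAction.orbit S.gen hne.some = S.D := by
      ext y
      constructor
      · rintro ⟨g, rfl⟩
        exact S.conj_mem g _ hne.some_mem
      · intro hy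
        obtain ⟨g, hg, e⟩ := conj_all (S := S) hne.some_mem hy
        exact ⟨⟨g, hg⟩, e⟩
    have h := MulAction.index_stabilizer S.gen hne.some
    rw [horb, card_D hne.some_mem] at h
    exact hcard ▸ h ▸ Subgroup.index_dvd_card _
  obtain rfl := dim_six n h693 hle
  exact ⟨⟨φ⟩, centralizer_gen hne⟩

/-- The class generates the unitary group. -/
theorem exists_psu (hne : S.D.Nonempty)
    (hcore : ∀ d ∈ S.D, ∀ T : Subgroup G, IsPGroup 2 T → T ≤ centralizer ({d} : Set G) →
      centralizer ({d} : Set G) ≤ normalizer (T : Set G) → T ≤ S.J d)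
    (hG : Nat.card G = 693 * 512 * 51840) :
    ∃ G₀ : Subgroup G, G₀.index = 2 ∧ Nonempty (G₀ ≃* Cfsg.PSU 6 K4 2) ∧ centralizer (G₀ : Set G) = ⊥ := by
  obtain ⟨⟨φ⟩, hc⟩ := gen_psu hne hcore (by rw [hG]; norm_num)
  refine ⟨S.gen, ?_, ⟨φ⟩, hc⟩
  have h := S.gen.card_mul_index
  rw [Nat.card_congr φ.toEquiv, FischerPresented.U62.card_psu, hG] at h
  omega

end Cfsg.Agent.U62Aut.Setting
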