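import Cfsg.Agent.Lib.LargeExtra.Radical

/-!
The hypotheses at one involution for the semilinear group: an extraspecial 2-core of order `2^9`, the quotient
acting on the points, and for every point the preimage of the commutator space of its transvection. Some of
the involutions which are not transvections are good: they fix a totally singular space with all its vectors
commutators.
-/

set_option autoImplicit false

namespace Cfsg.Agent.U62Aut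

open Subgroup LargeExtra
open scoped commutatorElement

/-- The facts about the quotient acting on the 45 points. -/
structure Geo (P : Type) [Fintype P] [DecidableEq P] where
  /-- The orthogonality of points. -/
  adj : P → P → Prop
  /-- The transvections. -/
  tr : P → Equiv.Perm P
  /-- The involutions. -/
  invs : Finset (Equiv.Perm P)
  invs_card : invs.card ≤ 891
  /-- The good involutions. -/
  good : Equiv.Perm P → Prop
  good_one : ¬ good 1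
  good_tr : ∀ p, ¬ good (tr p)
  fix_one : ∀ p s, tr p s = s → s = p ∨ adj p s
  fix_two : ∀ p q, adj p q → {s | (tr p * tr q) s = s}.ncard ≤ 5
  third : ∀ p q, adj p q → ∃ r, adj p r ∧ adj q r
  fix_three : ∀ p q r, adj p q → adj p r → adj q r → ∀ s, (tr p * tr q * tr r) s = s → s = p ∨ adj p s
  card_P : Fintype.card P = 45
  adj_symm : ∀ p q, adj p q → adj q p
  adj_irrefl : ∀ p, ¬ adj p p
  adj_card : ∀ p, {q | adj p q}.ncard = 12
  common : ∀ p q, p ≠ q → ¬ adj p q → 3 ≤ {r | adj p r ∧ adj q r}.ncard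
  connected : ∀ S : Set P, S.Nonempty → (∀ p q, p ∈ S → adj p q → q ∈ S) → S = Set.univ
  tr_sq : ∀ p, tr p * tr p = 1
  tr_ne_one : ∀ p, tr p ≠ 1
  tr_inj : Function.Injective tr
  tr_fix : ∀ p q, p = q ∨ adj p q → tr p q = q
  tr_comm : ∀ p q, adj p q → Commute (tr p) (tr q)
  tr_three : ∀ p q, p ≠ q → ¬ adj p q → (tr p * tr q) ^ 3 = 1 ∧ tr p * tr q ≠ 1
  tr_mul_ne : ∀ p q r, p ≠ q → Commute (tr p) (tr q) → tr p * tr q ≠ tr r

/-- The local hypotheses at an involution. -/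
structure Loc {G : Type*} [Group G] {P : Type} [Fintype P] [DecidableEq P] (Γ : Geo P) (z : G) where
  /-- The action of the centralizer on the points. -/
  perm : G → Equiv.Perm P
  /-- The preimage of the commutator space of a transvection. -/
  rad : P → Subgroup G
  xs : XSLocal (coreAt z) z
  card : Nat.card (coreAt z) = 512
  perm_mul : ∀ g h : G, Commute z g → Commute z h → perm (g * h) = perm g * perm h
  perm_core : ∀ g ∈ coreAt z, perm g = 1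
  ker_two : ∀ g : G, Commute z g → perm g = 1 → ∀ k : ℕ, g ^ 2 ^ k ∈ coreAt z → g ∈ coreAt z
  ker_tr : ∀ p q, ∀ e f : G, Commute z e → Commute z f → perm e = Γ.tr p → perm f = Γ.tr q → e * e ∈ coreAt z →
    f * f ∈ coreAt z → ∀ n : ℕ, perm ((e * f) ^ n) = 1 → (e * f) ^ n ∈ coreAt z
  ker_fix : ∀ g : G, Commute z g → perm g = 1 → ∀ s ∈ coreAt z, s ≠ 1 → s ≠ z → Commute g s → g ∈ coreAt z
  /-- An element can be changed by one acting trivially on the points to fix an involution modulo the core. -/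
  adjust : ∀ t g : G, Commute z t → Commute z g → t * t = 1 → Commute (perm g) (perm t) →
    ∃ k : G, Commute z k ∧ perm k = 1 ∧ t * (g * k * t * (g * k)⁻¹) ∈ coreAt z
  /-- The colour separating involutions with the same permutation. -/
  col : G → Fin 3
  col_eq : ∀ u v : G, Commute z u → Commute z v → u * u = 1 → v * v = 1 → perm u = perm v → col u = col v →
    u * v ∈ coreAt z
  perm_adj : ∀ g : G, Commute z g → ∀ p q, Γ.adj (perm g p) (perm g q) ↔ Γ.adj p q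
  perm_tr : ∀ g : G, Commute z g → ∀ p, perm g * Γ.tr p * (perm g)⁻¹ = Γ.tr (perm g p)
  trans : ∀ p q : P, ∃ g : G, Commute z g ∧ perm g p = q
  perm_invs : ∀ g : G, Commute z g → g * g ∈ coreAt z → g ∉ coreAt z → perm g ∈ Γ.invs
  rad_le : ∀ p, rad p ≤ coreAt z
  z_mem_rad : ∀ p, z ∈ rad p
  rad_card : ∀ p, Nat.card (rad p) = 8
  rad_sq : ∀ p, ∀ x ∈ rad p, x * x = 1
  perp_card : ∀ p, Nat.card ↥(coreAt z ⊓ centralizer (rad p : Set G)) = 128
  rad_conj : ∀ g : G, Commute z g → ∀ p, ∀ x ∈ rad p, g * x * g⁻¹ ∈ rad (perm g p)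
  rad_inf : ∀ p q, p ≠ q → ∀ x, x ∈ rad p → x ∈ rad q → x ∈ zpowers z
  rad_cover : ∀ x ∈ coreAt z, x * x = 1 → x ≠ 1 → x ≠ z → ∃ p, x ∈ rad p
  tr_comm_mem : ∀ p, ∀ g : G, Commute z g → perm g = Γ.tr p → g * g ∈ coreAt z → ∀ a ∈ coreAt z, ⁅g, a⁆ ∈ rad p
  tr_ker : ∀ p, ∀ g : G, Commute z g → perm g = Γ.tr p → g * g ∈ coreAt z → ∀ a ∈ coreAt z,
    (⁅g, a⁆ ∈ zpowers z ↔ ∀ r ∈ rad p, Commute a r)
  stab_elem : ∀ p, ∀ s ∈ rad p, s ≠ 1 → s ≠ z → ∀ N : Subgroup G, N ≤ centralizer {z, s} →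
    centralizer {z, s} ≤ normalizer (N : Set G) → (∀ a ∈ N, a * a ∈ coreAt z) →
    (perm '' (N : Set G)).ncard ≤ 16 ∧ ((perm '' (N : Set G)).ncard ≤ 8 →
      ∀ a ∈ N, ∀ v ∈ rad p, a * v * a⁻¹ = v ∨ a * v * a⁻¹ = v * z)
  stab_gap : ∀ p, ∀ s ∈ rad p, s ≠ 1 → s ≠ z → ∀ W : Subgroup G, W ≤ coreAt z → (∀ a ∈ W, a * a = 1) →
    z ∈ W → s ∈ W → centralizer {z, s} ≤ normalizer (W : Set G) → Nat.card W ≠ 16
  stab_closure : ∀ p, ∀ s ∈ rad p, s ≠ 1 → s ≠ z → ∀ W : Subgroup G, W ≤ coreAt z → (∀ a ∈ W, a * a = 1) →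
    z ∈ W → s ∈ W → 8 ≤ Nat.card W → centralizer {z, s} ≤ normalizer (W : Set G) → rad p ≤ W
  elem_le : ∀ N : Subgroup G, N ≤ centralizer {z} → (∀ a ∈ N, a * a ∈ coreAt z) → (perm '' (N : Set G)).ncard ≤ 16
  tr_small : ∀ p, ∀ N : Subgroup G, N ≤ centralizer {z} →
    (∀ a ∈ N, perm (a * a) = 1 ∨ perm (a * a) = Γ.tr p) → (∀ a ∈ N, Commute (perm a) (Γ.tr p)) →
    (perm '' (N : Set G)).ncard ≤ 32 ∧ ((perm '' (N : Set G)).ncard = 32 →
      ∀ a ∈ N, (∀ b ∈ N, Commute (perm a) (perm b)) → perm a = 1 ∨ perm a = Γ.tr p)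
  other_comm : ∀ t : G, Commute z t → t * t = 1 → t ∉ coreAt z → (∀ p, perm t ≠ Γ.tr p) →
    ∀ a ∈ coreAt z, ⁅t, a⁆ ∈ zpowers z →
      (Γ.good (perm t) → a * a = 1) ∧ ∃ b ∈ coreAt z, a = ⁅t, b⁆ ∨ a = ⁅t, b⁆ * z
  other_card : ∀ t : G, Commute z t → t * t = 1 → t ∉ coreAt z → (∀ p, perm t ≠ Γ.tr p) →
    (Γ.good (perm t) → 32 ≤ {a | a ∈ coreAt z ∧ ⁅t, a⁆ ∈ zpowers z ∧ a * a = 1}.ncard) ∧
      16 ≤ {a | a ∈ coreAt z ∧ ⁅t, a⁆ ∈ zpowers z ∧ a * a = 1}.ncard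
  other_pair : ∀ t : G, Commute z t → t * t = 1 → t ∉ coreAt z → (∀ p, perm t ≠ Γ.tr p) →
    ∀ W : Subgroup G, W ≤ coreAt z → z ∈ W → (∀ x ∈ W, x * x = 1) → (∃ x ∈ W, x ∉ zpowers z) →
    (Γ.good (perm t) ∨ 8 ≤ Nat.card W) → (∀ x ∈ W, ⁅t, x⁆ ∈ zpowers z) →
    (∀ g : G, Commute z g → t * (g * t * g⁻¹) ∈ coreAt z → g ∈ normalizer (W : Set G)) →
    ∃ a ∈ coreAt z, ∃ b ∈ coreAt z, ⁅t, a⁆ ∈ W ∧ ⁅t, b⁆ ∈ W ∧ ⁅t, a⁆ ∉ zpowers z ∧ ⁅t, b⁆ ∉ zpowers z ∧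
      ⁅t, a⁆ * ⁅t, b⁆ ∉ zpowers z ∧ Commute a ⁅t, b⁆
  odd_root : ∀ t : G, Commute z t → t * t = 1 → t ∉ coreAt z → (∀ p, perm t ≠ Γ.tr p) → ¬ Γ.good (perm t) →
    ∀ g : G, Commute z g → perm (g * g) ≠ perm t
  odd_img : ∀ t : G, Commute z t → t * t = 1 → t ∉ coreAt z → (∀ p, perm t ≠ Γ.tr p) → ¬ Γ.good (perm t) →
    ∀ N : Subgroup G, N ≤ centralizer {z} → (∀ a ∈ N, a * a ∈ coreAt z) → t ∈ N →
    (16 ≤ (perm '' (N : Set G)).ncard ∨ (8 ≤ (perm '' (N : Set G)).ncard ∧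
      ∀ g : G, Commute z g → Commute (perm g) (perm t) → ∀ a ∈ N, ∃ a' ∈ N, perm (g * a * g⁻¹) = perm a')) →
    ∃ a ∈ N, Γ.good (perm a) ∧ Γ.good (perm a * perm t)

end Cfsg.Agent.U62Aut
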