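import Cfsg.Agent.Lib.U62Aut.Weak
import Cfsg.Agent.Lib.FGBasics.Extraspecial

/-!
A member commuting with `z` induces a transvection on the quotient of the centralizer of `z` by its core.
-/

set_option autoImplicit false
set_option linter.style.haveILetI false
set_option linter.unusedSectionVars false
set_option linter.unusedVariables false

namespace Cfsg.Agent.U62Aut.Fam

open Subgroup LargeExtra
open scoped commutatorElement

variable {G : Type*} [Group G] [Finite G] {P : Type} [Fintype P] [DecidableEq P] {Γ : Geo P} (F : Fam (G := G) Γ)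
  {z t : G}

theorem mem_fix {a : G} {t : G} : a ∈ coreAt z ⊓ centralizer {t} ↔ a ∈ coreAt z ∧ Commute t a := by
  rw [mem_inf, mem_centralizer_one]; exact ⟨fun h => ⟨h.1, h.2.symm⟩, fun h => ⟨h.1, h.2.symm⟩⟩

/-- An element of square one centralised modulo `z` is centralised. -/
theorem sq_commute (hz : z ∈ F.D) (ht : t ∈ nbr F.D z) (hno : ∀ p, (F.loc z hz).perm t ≠ Γ.tr p) {a : G}
    (ha : a ∈ coreAt z) (hc : ⁅t, a⁆ ∈ zpowers z) (h2 : a * a = 1) : Commute t a := by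
  obtain ⟨L, hL⟩ : ∃ L : Loc Γ z, L = F.loc z hz := ⟨_, rfl⟩
  rw [← hL] at hno
  have htt := F.sqD ht.1
  have hti := F.invD ht.1
  obtain ⟨-, b, hb, hab⟩ := L.other_comm t ht.2.2 htt (F.notMem hz ht) hno a ha hc
  have key : ⁅t, b⁆ * ⁅t, b⁆ = 1 → Commute t ⁅t, b⁆ := fun hcc => by
    have hci : ⁅t, b⁆⁻¹ = ⁅t, b⁆ := inv_eq_of_mul_eq_one_right hcc
    have e : t * ⁅t, b⁆ * t⁻¹ = ⁅t, b⁆⁻¹ := by
      simp [commutatorElement_def, hti, mul_assoc, ← mul_assoc t t, htt]
    rw [hci] at e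
    exact mul_inv_eq_iff_eq_mul.1 e
  have hcm := L.commutator_mem ht.2.2 hb
  rcases hab with e | e
  · exact e ▸ key (e ▸ h2)
  · have hcz : Commute ⁅t, b⁆ z := (L.comm hcm).symm
    refine e ▸ (key ?_).mul_right ht.2.2.symm
    rw [e, hcz.symm.mul_mul_mul_comm, L.sq, mul_one] at h2
    exact h2

/-- A non-trivial meet of the cores forbids the product with `z`. -/
theorem mul_notMem (hz : z ∈ F.D) (ht : t ∈ nbr F.D z) (hno : ∀ p, (F.loc z hz).perm t ≠ Γ.tr p) {r : G}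
    (hr : r ∈ coreAt z ⊓ coreAt t) (hr1 : r ≠ 1) : t * z ∉ F.D := by
  intro htz
  obtain ⟨L, hL⟩ : ∃ L : Loc Γ z, L = F.loc z hz := ⟨_, rfl⟩
  rw [← hL] at hno
  have hcr : Commute t r := (F.loc t ht.1).comm hr.2
  obtain ⟨-, b, hb, e | e⟩ := L.other_comm t ht.2.2 (F.sqD ht.1) (F.notMem hz ht) hno r hr.1
    (by rw [commutatorElement_eq_one_iff_commute.2 hcr]; exact one_mem _)
  · exact hr1 (e.trans (F.commutator_one hz ht (e ▸ hr)))
  · exact hr1 (e.trans (F.commutator_z hz ht hb htz (e ▸ hr)))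

/-- An element centralising the image of `t` is the product of one of the core and one centralising `t`. -/
theorem exists_split (hz : z ∈ F.D) (ht : t ∈ nbr F.D z) (hno : ∀ p, (F.loc z hz).perm t ≠ Γ.tr p) {r : G}
    (hr : r ∈ coreAt z ⊓ coreAt t) (hr1 : r ≠ 1) {g : G} (hg : Commute z g)
    (hgj : t * (g * t * g⁻¹) ∈ coreAt z) : ∃ b ∈ coreAt z, Commute t (b⁻¹ * g) := by
  have htz := F.mul_notMem hz ht hno hr hr1
  obtain ⟨L, hL⟩ : ∃ L : Loc Γ z, L = F.loc z hz := ⟨_, rfl⟩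
  rw [← hL] at hno
  have htt := F.sqD ht.1
  have hti := F.invD ht.1
  have hzt : Commute z t := ht.2.2
  have htJ := F.notMem hz ht
  have hzc : ∀ {a : G}, a ∈ coreAt z → Commute a z := fun ha => (L.comm ha).symm
  obtain ⟨t', ht'⟩ : ∃ t', t' = g * t * g⁻¹ := ⟨_, rfl⟩
  have ht'D : t' ∈ F.D := ht' ▸ F.conj_mem g t ht.1
  have hzt' : Commute z t' := ht' ▸ (hg.mul_right hzt).mul_right hg.inv_right
  have hj : t * t' ∈ coreAt z := ht' ▸ hgj
  have ht't := F.sqD ht'D
  have hcj : ⁅t, t * t'⁆ ∈ zpowers z := by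
    have e : ⁅t, t * t'⁆ = ((t * t') * (t * t'))⁻¹ := by
      simp [commutatorElement_def, hti, F.invD ht'D, mul_assoc, ← mul_assoc t t, htt]
    rw [e]
    refine inv_mem ?_
    rcases L.xs.toXSub.sq_cases hj with h | h <;> rw [h]
    exacts [one_mem _, mem_zpowers z]
  obtain ⟨-, b, hb, e | e⟩ := L.other_comm t hzt htt htJ hno _ hj hcj
  swap
  · exfalso
    have h1 : t' = b * (t * z) * b⁻¹ := by
      calc t' = t * (t * t') := by rw [← mul_assoc, htt, one_mul]
        _ = t * ⁅t, b⁆ * z := by rw [e, mul_assoc]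
        _ = b * (t * z) * b⁻¹ := by
          rw [← F.conj_eq hz ht b, mul_assoc, ← (hzc (inv_mem hb)).eq.symm]
          simp [mul_assoc, ((L.comm hb).inv_right).eq]
    exact htz (by simpa [h1, mul_assoc] using F.conj_mem b⁻¹ t' ht'D)
  have h1 : t' = b * t * b⁻¹ := by
    rw [F.conj_eq hz ht b, ← e, ← mul_assoc, htt, one_mul]
  have hbg : Commute t (b⁻¹ * g) := by
    show t * (b⁻¹ * g) = b⁻¹ * g * t
    have e2 : b * t * b⁻¹ * g = g * t := by rw [← h1, ht', inv_mul_cancel_right]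
    rw [mul_assoc b⁻¹, ← e2]; group
  exact ⟨b, hb, hbg⟩

/-- The meet of the cores is too large for a pair. -/
theorem big_absurd (hz : z ∈ F.D) (ht : t ∈ nbr F.D z) (hno : ∀ p, (F.loc z hz).perm t ≠ Γ.tr p) {r : G}
    (hr0 : r ∈ coreAt z ⊓ coreAt t) (hr1 : r ≠ 1)
    (hbig : Γ.good ((F.loc z hz).perm t) ∨ 4 ≤ Nat.card ↥(coreAt z ⊓ coreAt t)) : False := by
  classical
  have hsplit := fun {g : G} => F.exists_split hz ht hno hr0 hr1 (g := g)
  obtain ⟨L, hL⟩ : ∃ L : Loc Γ z, L = F.loc z hz := ⟨_, rfl⟩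
  rw [← hL] at hno hbig
  obtain ⟨L', -⟩ : ∃ L' : Loc Γ t, L' = F.loc t ht.1 := ⟨_, rfl⟩
  have htt := F.sqD ht.1
  have hzt : Commute z t := ht.2.2
  have htJ := F.notMem hz ht
  obtain ⟨R, hR⟩ : ∃ R, R = coreAt z ⊓ coreAt t := ⟨_, rfl⟩
  have hr : r ∈ R := hR ▸ hr0
  have hzR : z ∉ R := fun h => F.notMem' hz ht (hR ▸ h : z ∈ coreAt z ⊓ coreAt t).2
  have hzc : ∀ {a : G}, a ∈ coreAt z → Commute a z := fun ha => (L.comm ha).symm
  have hRz : ∀ {a : G}, a ∈ R → a ∈ coreAt z := fun ha => (hR ▸ ha : _ ∈ coreAt z ⊓ coreAt t).1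
  let W : Subgroup G :=
    { carrier := {x | x ∈ R ∨ x * z ∈ R}
      one_mem' := Or.inl (one_mem R)
      mul_mem' := by
        rintro a b (ha | ha) (hb | hb)
        · exact Or.inl (mul_mem ha hb)
        · exact Or.inr (by rw [mul_assoc]; exact mul_mem ha hb)
        · refine Or.inr ?_
          rw [mul_assoc, (hzc (hRz hb)).eq, ← mul_assoc]
          exact mul_mem ha hb
        · refine Or.inl ?_
          have e : a * z * (b * z) = a * b := by
            have hbz : Commute (b * z) z := hzc (hRz hb)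
            rw [mul_assoc a z, ← hbz.eq, mul_assoc b, L.sq, mul_one]
          exact e ▸ mul_mem ha hb
      inv_mem' := by
        rintro a (ha | ha)
        · exact Or.inl (inv_mem ha)
        · refine Or.inr ?_
          have h1 := inv_mem ha
          rw [_root_.mul_inv_rev, inv_eq_of_mul_eq_one_right L.sq] at h1
          have haz : Commute z a⁻¹ := by
            have h2 := (hzc (hRz ha)).symm.mul_right (Commute.refl z)
            rw [mul_assoc, L.sq, mul_one] at h2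
            exact h2.inv_right
          rwa [← haz.eq] }
  have hWmem : ∀ {a : G}, a ∈ W ↔ a ∈ R ∨ a * z ∈ R := Iff.rfl
  have hzW : z ∈ W := hWmem.2 (Or.inr (by rw [L.sq]; exact one_mem _))
  have hWle : W ≤ coreAt z := fun a ha => by
    rcases hWmem.1 ha with h | h
    · exact hRz h
    · simpa [mul_assoc, L.sq] using mul_mem (hRz h) L.xs.mem
  have hWt : ∀ a ∈ W, Commute t a := fun a ha => by
    rcases hWmem.1 ha with h | h
    · exact L'.comm (hR ▸ h : a ∈ coreAt z ⊓ coreAt t).2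
    · have := (L'.comm (hR ▸ h : a * z ∈ coreAt z ⊓ coreAt t).2).mul_right hzt.symm
      rwa [mul_assoc, L.sq, mul_one] at this
  have hWJ : ∀ b ∈ coreAt z, ∀ a ∈ W, b * a * b⁻¹ ∈ W := fun b hb a ha => by
    rcases L.xs.toXSub.conj_cases hb (hWle ha) with e | e <;> rw [e]
    exacts [ha, mul_mem ha hzW]
  have hWsq : ∀ a ∈ W, a * a = 1 := fun a ha => by
    rcases hWmem.1 ha with h | h
    · exact F.core_inf_sq hz ht (hR ▸ h)
    · have h1 := F.core_inf_sq hz ht (hR ▸ h : a * z ∈ coreAt z ⊓ coreAt t)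
      rwa [(hzc (hWle ha)).symm.mul_mul_mul_comm, L.sq, mul_one] at h1
  have hWcard : Γ.good (L.perm t) ∨ 8 ≤ Nat.card W := by
    refine hbig.imp id fun h4 => ?_
    rw [← hR] at h4
    have hd : Disjoint (R : Set G) ((fun x => x * z) '' (R : Set G)) := by
      rw [Set.disjoint_left]
      rintro a ha ⟨b, hb, rfl⟩
      exact hzR (by simpa using R.mul_mem (R.inv_mem hb) ha)
    have hsub : (R : Set G) ∪ (fun x => x * z) '' (R : Set G) ⊆ (W : Set G) := by
      rintro a (ha | ⟨b, hb, rfl⟩)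
      · exact hWmem.2 (Or.inl ha)
      · exact hWmem.2 (Or.inr (by rw [mul_assoc, L.sq, mul_one]; exact hb))
    have h1 := Set.ncard_le_ncard hsub (Set.toFinite _)
    rw [Set.ncard_union_eq hd, Set.ncard_image_of_injective _ (mul_left_injective z), ← Nat.card_coe_set_eq,
      ← Nat.card_coe_set_eq] at h1
    simp only [SetLike.coe_sort_coe] at h1
    omega
  have hWnorm : ∀ g : G, Commute z g → t * (g * t * g⁻¹) ∈ coreAt z → g ∈ normalizer (W : Set G) := by
    intro g hg hgt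
    obtain ⟨b, hb, hbg⟩ := hsplit hg hgt
    have hbgz : Commute z (b⁻¹ * g) := ((L.comm hb).inv_right).mul_right hg
    refine mem_normalizer_of_conj (S := closure {b, b⁻¹ * g}) ?_ ?_
    · intro k hk
      induction hk using closure_induction with
      | mem k hk =>
        rcases hk with rfl | rfl
        · exact hWJ k hb
        · intro a ha
          have hcon : ∀ x ∈ R, b⁻¹ * g * x * (b⁻¹ * g)⁻¹ ∈ R := fun x hx => by
            rw [hR] at hx ⊢
            exact ⟨L.conj_core hbgz hx.1, L'.conj_core hbg hx.2⟩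
          rcases hWmem.1 ha with h | h
          · exact hWmem.2 (Or.inl (hcon a h))
          · refine hWmem.2 (Or.inr ?_)
            have := hcon _ h
            rwa [show b⁻¹ * g * (a * z) * (b⁻¹ * g)⁻¹ = b⁻¹ * g * a * (b⁻¹ * g)⁻¹ * z by
              simp only [mul_assoc]; rw [(hbgz.inv_right).eq]] at this
      | one => intro a ha; simpa using ha
      | mul k l _ _ hk hl =>
        intro a ha
        have := hk _ (hl a ha)
        rwa [show k * (l * a * l⁻¹) * k⁻¹ = k * l * a * (k * l)⁻¹ by group] at this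
      | inv k hk' hk =>
        intro a ha
        have hpow : ∀ n : ℕ, ∀ x ∈ W, k ^ n * x * (k ^ n)⁻¹ ∈ W := by
          intro n
          induction n with
          | zero => intro x hx; simpa using hx
          | succ n ih =>
            intro x hx
            have := hk _ (ih x hx)
            rwa [show k * (k ^ n * x * (k ^ n)⁻¹) * k⁻¹ = k ^ (n + 1) * x * (k ^ (n + 1))⁻¹ by
              rw [pow_succ']; group] at this
        have hk1 : k⁻¹ = k ^ (orderOf k - 1) := by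
          refine inv_eq_of_mul_eq_one_right ?_
          rw [← pow_succ', Nat.sub_add_cancel (orderOf_pos k), pow_orderOf_eq_one]
        rw [hk1]
        exact hpow _ a ha
    · have hgm : b * (b⁻¹ * g) ∈ closure ({b, b⁻¹ * g} : Set G) :=
        mul_mem (Subgroup.subset_closure (Or.inl rfl)) (Subgroup.subset_closure (Or.inr rfl))
      rwa [mul_inv_cancel_left] at hgm
  obtain ⟨a, ha, b, hb, haW, hbW, haz, hbz, habz, hab⟩ := L.other_pair t hzt htt htJ hno W hWle hzW hWsq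
    ⟨r, hWmem.2 (Or.inl hr), fun h => (L.xs.toXSub.mem_zpowers_iff.1 h).elim hr1 fun h => hzR (h ▸ hr)⟩
    hWcard (fun x hx => by rw [commutatorElement_eq_one_iff_commute.2 (hWt x hx)]; exact one_mem _) hWnorm
  have hcase : ∀ c, ⁅t, c⁆ ∈ W → ⁅t, c⁆ ∉ zpowers z → ⁅t, c⁆ * z ∈ R := fun c hc hcz => by
    rcases hWmem.1 hc with h | h
    · exact absurd (F.commutator_one hz ht (hR ▸ h) ▸ one_mem _) hcz
    · exact h
  have hprod : ⁅t, a * b⁆ = ⁅t, a⁆ * ⁅t, b⁆ := by
    have : ⁅t, a * b⁆ = ⁅t, a⁆ * (a * ⁅t, b⁆ * a⁻¹) := by simp [commutatorElement_def, mul_assoc]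
    rw [this, hab.eq, mul_inv_cancel_right]
  have hRR : ⁅t, a * b⁆ ∈ R := by
    have h1 := mul_mem (hcase a haW haz) (hcase b hbW hbz)
    rwa [mul_assoc, ← mul_assoc z, ← (hzc (L.commutator_mem hzt hb)).eq, mul_assoc ⁅t, b⁆, L.sq, mul_one,
      ← hprod] at h1
  exact habz (hprod ▸ F.commutator_one hz ht (hR ▸ hRR) ▸ one_mem _)


/-- The elements of square one of the core centralised modulo `z` are few in the image at `t`. -/
theorem fix_card (hz : z ∈ F.D) (ht : t ∈ nbr F.D z) (hno : ∀ p, (F.loc z hz).perm t ≠ Γ.tr p) :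
    (Γ.good ((F.loc z hz).perm t) → 32 ≤ Nat.card ↥(coreAt z ⊓ centralizer {t})) ∧
      16 ≤ Nat.card ↥(coreAt z ⊓ centralizer {t}) := by
  have hsub : {a | a ∈ coreAt z ∧ ⁅t, a⁆ ∈ zpowers z ∧ a * a = 1} ⊆ ((coreAt z ⊓ centralizer {t} : Subgroup G) : Set G) :=
    fun a ha => mem_fix.2 ⟨ha.1, F.sq_commute hz ht hno ha.1 ha.2.1 ha.2.2⟩
  have h := (Set.ncard_le_ncard hsub (Set.toFinite _))
  rw [← Nat.card_coe_set_eq (((coreAt z ⊓ centralizer {t} : Subgroup G) : Set G))] at h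
  obtain ⟨h1, h2⟩ := (F.loc z hz).other_card t ht.2.2 (F.sqD ht.1) (F.notMem hz ht) hno
  exact ⟨fun hg => le_trans (h1 hg) h, le_trans h2 h⟩

/-- No member induces a good involution. -/
theorem not_good (hz : z ∈ F.D) (ht : t ∈ nbr F.D z) : ¬ Γ.good ((F.loc z hz).perm t) := by
  classical
  intro hgood
  have hno : ∀ p, (F.loc z hz).perm t ≠ Γ.tr p := fun p e => Γ.good_tr p (e ▸ hgood)
  obtain ⟨L', -⟩ : ∃ L' : Loc Γ t, L' = F.loc t ht.1 := ⟨_, rfl⟩
  obtain ⟨N, hN⟩ : ∃ N, N = coreAt z ⊓ centralizer {t} := ⟨_, rfl⟩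
  have hN32 : 32 ≤ Nat.card N := hN ▸ (F.fix_card hz ht hno).1 hgood
  have hNsq : ∀ a ∈ N, a * a = 1 := fun a ha => by
    obtain ⟨h1, h2⟩ := mem_fix.1 (hN ▸ ha : a ∈ coreAt z ⊓ centralizer {t})
    exact ((F.loc z hz).other_comm t ht.2.2 (F.sqD ht.1) (F.notMem hz ht) hno a h1
      (by rw [commutatorElement_eq_one_iff_commute.2 h2]; exact one_mem _)).1 hgood
  have himg := L'.elem_le N (hN ▸ inf_le_right) fun a ha => by rw [hNsq a ha]; exact one_mem _
  have hcard := L'.card_image (hN ▸ (coreAt_isPGroup z).to_le inf_le_left) fun a (ha : a ∈ N) => (mem_fix.1 (hN ▸ ha : a ∈ coreAt z ⊓ centralizer {t})).2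
  obtain ⟨r, hr, hr1⟩ : ∃ r ∈ coreAt z ⊓ coreAt t, r ≠ 1 := by
    by_contra hc
    push Not at hc
    have hb : N ⊓ coreAt t = ⊥ := (eq_bot_iff_forall _).2 fun a ha =>
      hc a ⟨(mem_fix.1 (hN ▸ ha.1 : a ∈ coreAt z ⊓ centralizer {t})).1, ha.2⟩
    rw [hb, Subgroup.card_bot, mul_one] at hcard
    omega
  exact F.big_absurd hz ht hno hr hr1 (Or.inl hgood)

/-- An odd involution and a transvection the other way round are impossible. -/
theorem not_mixed (hz : z ∈ F.D) (ht : t ∈ nbr F.D z) (hno : ∀ p, (F.loc z hz).perm t ≠ Γ.tr p) {q : P}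
    (hq : (F.loc t ht.1).perm z = Γ.tr q) : False := by
  classical
  obtain ⟨L, hL⟩ : ∃ L : Loc Γ z, L = F.loc z hz := ⟨_, rfl⟩
  obtain ⟨L', hL'⟩ : ∃ L' : Loc Γ t, L' = F.loc t ht.1 := ⟨_, rfl⟩
  have hg : ¬ Γ.good (L.perm t) := hL ▸ F.not_good hz ht
  rw [← hL] at hno
  rw [← hL'] at hq
  have hzt : Commute t z := ht.2.2.symm
  obtain ⟨C, hC⟩ : ∃ C, C = coreAt t ⊓ centralizer (L'.rad q : Set G) := ⟨_, rfl⟩
  have hrel : ∀ a ∈ C, ⁅z, a⁆ = 1 ∨ ⁅z, a⁆ = t := fun a ha => by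
    rw [hC, mem_inf, mem_centralizer_iff] at ha
    exact L'.xs.toXSub.mem_zpowers_iff.1
      ((L'.tr_ker q z hzt hq ((F.sqD hz).symm ▸ one_mem _) a ha.1).2 fun r hr => (show Commute r a from ha.2 r hr).symm)
  obtain ⟨K, hK⟩ : ∃ K, K = C ⊓ centralizer {z} := ⟨_, rfl⟩
  have hKmem : ∀ {a : G}, a ∈ K ↔ a ∈ C ∧ Commute z a := fun {a} => by
    rw [hK, mem_inf, mem_centralizer_one]; exact ⟨fun h => ⟨h.1, h.2.symm⟩, fun h => ⟨h.1, h.2.symm⟩⟩
  have hK64 : 64 ≤ Nat.card K := by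
    have hC128 : (C : Set G).ncard = 128 := by rw [← Nat.card_coe_set_eq]; exact hC ▸ L'.perp_card q
    have hKn : (K : Set G).ncard = Nat.card K := (Nat.card_coe_set_eq _).symm
    by_cases hall : ∀ a ∈ C, ⁅z, a⁆ = 1
    · have : (C : Set G).ncard ≤ (K : Set G).ncard := Set.ncard_le_ncard
        (fun a ha => hKmem.2 ⟨ha, commutatorElement_eq_one_iff_commute.1 (hall a ha)⟩) (Set.toFinite _)
      omega
    push Not at hall
    obtain ⟨a₀, ha₀, hne⟩ := hall
    have he₀ := (hrel a₀ ha₀).resolve_left hne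
    have hsub : (C : Set G) ⊆ (K : Set G) ∪ (fun a => a₀ * a) '' (K : Set G) := fun a ha => by
      rcases hrel a ha with e | e
      · exact Or.inl (hKmem.2 ⟨ha, commutatorElement_eq_one_iff_commute.1 e⟩)
      · refine Or.inr ⟨a₀⁻¹ * a, hKmem.2 ⟨C.mul_mem (C.inv_mem ha₀) ha, ?_⟩, by group⟩
        have e1 : ⁅z, a₀⁆ = ⁅z, a⁆ := he₀.trans e.symm
        simp only [commutatorElement_def] at e1
        have e2 : z * a₀ * z⁻¹ * a₀⁻¹ * a = z * a * z⁻¹ := by rw [e1]; group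
        show z * (a₀⁻¹ * a) = a₀⁻¹ * a * z
        calc z * (a₀⁻¹ * a) = z * a₀⁻¹ * z⁻¹ * (z * a * z⁻¹) * z := by group
          _ = a₀⁻¹ * a * z := by rw [← e2]; group
    have h1 := (Set.ncard_le_ncard hsub (Set.toFinite _)).trans (Set.ncard_union_le _ _)
    rw [Set.ncard_image_of_injective _ (mul_right_injective a₀)] at h1
    omega
  have hKJ : K ≤ coreAt t := fun a ha => (hC ▸ (hKmem.1 ha).1 : a ∈ coreAt t ⊓ centralizer (L'.rad q : Set G)).1
  have hKsq : ∀ a ∈ K, a * a = 1 := fun a ha => by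
    rcases L'.xs.toXSub.sq_cases (hKJ ha) with e | e
    · exact e
    · exact absurd (congrArg L.perm e)
        (L.odd_root t ht.2.2 (F.sqD ht.1) (F.notMem hz ht) hno hg a (hKmem.1 ha).2)
  have hab : IsMulCommutative ↥(K.subgroupOf (coreAt t)) := ⟨⟨fun a b => Subtype.ext (Subtype.ext (by
    have ha := hKsq _ (Subgroup.mem_subgroupOf.1 a.2)
    have hb := hKsq _ (Subgroup.mem_subgroupOf.1 b.2)
    have hab := hKsq _ (mul_mem (Subgroup.mem_subgroupOf.1 a.2) (Subgroup.mem_subgroupOf.1 b.2))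
    simp only [Subgroup.coe_mul]
    rw [← inv_eq_of_mul_eq_one_right hab, mul_inv_rev, inv_eq_of_mul_eq_one_right ha,
      inv_eq_of_mul_eq_one_right hb]))⟩⟩
  haveI : Fact (Nat.Prime 2) := ⟨Nat.prime_two⟩
  have h := FGBasics.XS.card_abelian_sq_le L'.xs.toXSub.xs (K.subgroupOf (coreAt t)) hab
  rw [Nat.card_congr (subgroupOfEquivOfLe hKJ).toEquiv, L'.card] at h
  have := Nat.mul_le_mul hK64 hK64
  omega

/-- The image of a neighbour is a transvection. -/
theorem exists_tr (hz : z ∈ F.D) (ht : t ∈ nbr F.D z) : ∃ p, (F.loc z hz).perm t = Γ.tr p := by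
  classical
  by_contra hno0
  push Not at hno0
  have hzn := F.nbr_symm hz ht
  have hno' : ∀ p, (F.loc t ht.1).perm z ≠ Γ.tr p := fun p e => F.not_mixed hz ht hno0 e
  have hgz := F.not_good hz ht
  have hgt := F.not_good ht.1 hzn
  have hN16 := (F.fix_card ht.1 hzn hno').2
  have hsplit := fun {r : G} (hr : r ∈ coreAt z ⊓ coreAt t) (hr1 : r ≠ 1) {g : G} =>
    F.exists_split hz ht hno0 hr hr1 (g := g)
  obtain ⟨L, hL⟩ : ∃ L : Loc Γ z, L = F.loc z hz := ⟨_, rfl⟩
  obtain ⟨L', hL'⟩ : ∃ L' : Loc Γ t, L' = F.loc t ht.1 := ⟨_, rfl⟩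
  have hzt : Commute z t := ht.2.2
  have htt := F.sqD ht.1
  have hzz := F.sqD hz
  have htJ := F.notMem hz ht
  have hzJ := F.notMem' hz ht
  obtain ⟨N, hN⟩ : ∃ N, N = coreAt t ⊓ centralizer {z} := ⟨_, rfl⟩
  rw [← hN] at hN16
  rw [← hL] at hgz
  have hno : ∀ p, L.perm t ≠ Γ.tr p := hL ▸ hno0
  rw [← hL'] at hno' hgt
  have hNmem : ∀ {a : G}, a ∈ N ↔ a ∈ coreAt t ∧ Commute z a := fun {a} => hN ▸ mem_fix
  have hNsq : ∀ a ∈ N, a * a = 1 := fun a ha => by
    rcases L'.xs.toXSub.sq_cases (hNmem.1 ha).1 with e | e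
    · exact e
    · exact absurd (congrArg L.perm e) (L.odd_root t hzt htt htJ hno hgz a (hNmem.1 ha).2)
  have htN : t ∈ N := hNmem.2 ⟨L'.xs.mem, hzt⟩
  obtain ⟨R, hR⟩ : ∃ R, R = coreAt z ⊓ coreAt t := ⟨_, rfl⟩
  have hNR : N ⊓ coreAt z ≤ R := fun a ha => hR ▸ ⟨ha.2, (hNmem.1 ha.1).1⟩
  have hcard := L.card_image (hN ▸ (coreAt_isPGroup t).to_le inf_le_left) fun a (ha : a ∈ N) => (hNmem.1 ha).2
  have hle : Nat.card ↥(N ⊓ coreAt z) ≤ Nat.card R := Subgroup.card_le_of_le hNR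
  have hR2 : Nat.card R ≤ 2 := by
    by_contra h2
    haveI : Fact (Nat.Prime 2) := ⟨Nat.prime_two⟩
    obtain ⟨k, hk⟩ := IsPGroup.iff_card.1 (show IsPGroup 2 R from fun a => ⟨1, Subtype.ext (by
      rw [pow_one, pow_two, Subgroup.coe_mul]; exact F.core_inf_sq hz ht (hR ▸ a.2))⟩)
    have hk2 : 4 ≤ Nat.card R := by
      rw [hk] at h2 ⊢
      have : 2 ≤ k := by
        by_contra hk'
        interval_cases k <;> simp_all
      exact le_trans (by norm_num) (Nat.pow_le_pow_right (show 2 > 0 by norm_num) this)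
    have hlt : 1 < (R : Set G).ncard := by
      rw [← Nat.card_coe_set_eq]
      show 1 < Nat.card R
      omega
    obtain ⟨r, hr, hr1⟩ := Set.exists_ne_of_one_lt_ncard hlt 1
    exact F.big_absurd hz ht hno0 (hR ▸ hr) hr1 (Or.inr (hR ▸ hk2))
  have himg : 16 ≤ (L.perm '' (N : Set G)).ncard ∨ (8 ≤ (L.perm '' (N : Set G)).ncard ∧
      ∀ g : G, Commute z g → Commute (L.perm g) (L.perm t) → ∀ a ∈ N, ∃ a' ∈ N, L.perm (g * a * g⁻¹) = L.perm a') := by
    by_cases hbot : ∀ r ∈ R, r = 1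
    · left
      have : N ⊓ coreAt z = ⊥ := (eq_bot_iff_forall _).2 fun a ha => hbot a (hNR ha)
      rw [this, Subgroup.card_bot, mul_one] at hcard
      omega
    push Not at hbot
    obtain ⟨r, hr, hr1⟩ := hbot
    refine Or.inr ⟨?_, fun g hg hgc a ha => ?_⟩
    · have := Nat.mul_le_mul_left (L.perm '' (N : Set G)).ncard (le_trans hle hR2)
      omega
    · obtain ⟨k, hzk, hpk, hkj⟩ := L.adjust t g hzt hg htt hgc
      obtain ⟨b, hb, hbg⟩ := hsplit (hR ▸ hr) hr1 (hg.mul_right hzk) hkj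
      have hzb : Commute z b⁻¹ := (L.comm hb).inv_right
      have hk : Commute z (b⁻¹ * (g * k)) := hzb.mul_right (hg.mul_right hzk)
      obtain ⟨ha1, ha2⟩ := hNmem.1 ha
      refine ⟨b⁻¹ * (g * k) * a * (b⁻¹ * (g * k))⁻¹,
        hNmem.2 ⟨L'.conj_core hbg ha1, (hk.mul_right ha2).mul_right hk.inv_right⟩, ?_⟩
      have hga : Commute z (k * a * k⁻¹) := (hzk.mul_right ha2).mul_right hzk.inv_right
      have hpki : L.perm k⁻¹ = 1 := by
        have := L.perm_mul k k⁻¹ hzk hzk.inv_right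
        rwa [mul_inv_cancel, L.perm_one, hpk, one_mul, eq_comm] at this
      have hka : L.perm (k * a * k⁻¹) = L.perm a := by
        rw [L.perm_mul _ _ (hzk.mul_right ha2) hzk.inv_right, L.perm_mul _ _ hzk ha2, hpk, hpki, one_mul, mul_one]
      have hgka : Commute z (g * (k * a * k⁻¹) * g⁻¹) := (hg.mul_right hga).mul_right hg.inv_right
      rw [show b⁻¹ * (g * k) * a * (b⁻¹ * (g * k))⁻¹ = b⁻¹ * (g * (k * a * k⁻¹) * g⁻¹) * b by group,
        L.perm_mul _ _ (hzb.mul_right hgka) (L.comm hb), L.perm_mul _ _ hzb hgka,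
        L.perm_core _ ((coreAt z).inv_mem hb), L.perm_core _ hb, one_mul, mul_one,
        L.perm_mul _ _ (hg.mul_right hga) hg.inv_right, L.perm_mul _ _ hg hga, hka,
        L.perm_mul _ _ (hg.mul_right ha2) hg.inv_right, L.perm_mul _ _ hg ha2]
  obtain ⟨a, haN, hga, hgat⟩ := L.odd_img t hzt htt htJ hno hgz N
    (fun a ha => mem_centralizer_one.2 (hNmem.1 ha).2.eq.symm)
    (fun a ha => by rw [hNsq a ha]; exact one_mem _) htN himg
  obtain ⟨haJ, haz⟩ := hNmem.1 haN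
  obtain ⟨-, b, hb, hab⟩ := L'.other_comm z hzt.symm hzz hzJ hno' a haJ
    (by rw [commutatorElement_eq_one_iff_commute.2 haz]; exact one_mem _)
  have hc : Commute z ⁅z, b⁆ ∧ Γ.good (L.perm ⁅z, b⁆) := by
    rcases hab with e | e
    · exact e ▸ ⟨haz, hga⟩
    · have hc' : ⁅z, b⁆ = a * t := by rw [e, mul_assoc, htt, mul_one]
      refine ⟨hc' ▸ haz.mul_right hzt, ?_⟩
      rw [hc', L.perm_mul a t haz hzt]
      exact hgat
  have hne : ⁅z, b⁆ ≠ 1 := fun e => Γ.good_one (by have := hc.2; rwa [e, L.perm_one] at this)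
  have hx : z * ⁅z, b⁆ ∈ nbr F.D z :=
    ⟨F.conj_eq ht.1 hzn b ▸ F.conj_mem b z hz, fun e => hne (mul_eq_left.1 e), (Commute.refl z).mul_right hc.1⟩
  refine F.not_good hz hx ?_
  rw [← hL, L.perm_mul z _ (Commute.refl z) hc.1, L.perm_z, one_mul]
  exact hc.2

end Cfsg.Agent.U62Aut.Fam
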