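import Cfsg.Agent.Lib.U62Aut.Components

/-!
In the setting: the points are separated by their orthogonality sets, the centralizer of the class is
trivial, and no member centralizes a normal elementary subgroup; the group generated by the class has one
class and no normal 2- or odd subgroup.
-/

set_option autoImplicit false
set_option linter.style.haveILetI false
set_option linter.unusedSectionVars false

namespace Cfsg.Agent.U62Aut.Setting

open Subgroup

universe u

variable {G : Type u} [Group G] [Finite G] {P : Type} [Fintype P] [DecidableEq P] {S : Setting G P}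
  {a b c d e f g x y z : G} {p q : P}

theorem mem_normalizer_inter {N : Subgroup G} {X : Set G} (hN : ∀ w : G, ∀ n ∈ N, w * n * w⁻¹ ∈ N) {g : G}
    (hg : g ∈ centralizer X) : g ∈ normalizer ((N ⊓ centralizer X : Subgroup G) : Set G) := by
  have key : ∀ w ∈ centralizer X, ∀ n ∈ N ⊓ centralizer X, w * n * w⁻¹ ∈ N ⊓ centralizer X := fun w hw n hn =>
    ⟨hN w n hn.1, (centralizer X).mul_mem ((centralizer X).mul_mem hw hn.2) ((centralizer X).inv_mem hw)⟩
  refine mem_normalizer_iff.2 fun n => ⟨key g hg n, fun h => ?_⟩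
  have := key g⁻¹ ((centralizer X).inv_mem hg) _ h
  simpa [mul_assoc] using this

theorem exists_over (hd : d ∈ S.D) (p : P) : ∃ e ∈ nbr S.D d, S.pt d e = p := by
  have h := S.fibre_card d hd p
  obtain ⟨e, he⟩ : {e | e ∈ nbr S.D d ∧ S.pt d e = p}.Nonempty := by
    rw [← Set.ncard_pos (Set.toFinite _), h]; norm_num
  exact ⟨e, he⟩

theorem exists_other (hd : d ∈ S.D) (e : G) (p : P) : ∃ f ∈ nbr S.D d, f ≠ e ∧ S.pt d f = p := by
  have h := S.fibre_card d hd p
  obtain ⟨f, hf, hfe⟩ := Set.exists_ne_of_one_lt_ncard (s := {e | e ∈ nbr S.D d ∧ S.pt d e = p})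
    (by rw [h]; norm_num) e
  exact ⟨f, hf.1, hfe, hf.2⟩

theorem exists_far_point (S : Setting G P) (p : P) : ∃ q, q ≠ p ∧ ¬ S.adj p q := by
  classical
  by_contra hcon
  push Not at hcon
  have hsub : (Set.univ : Set P) ⊆ insert p {q | S.adj p q} := fun q _ =>
    (em (q = p)).elim Or.inl fun h => Or.inr (hcon q h)
  have := (Set.ncard_le_ncard hsub (Set.toFinite _)).trans (Set.ncard_insert_le _ _)
  rw [Set.ncard_univ, Nat.card_eq_fintype_card, S.card_P, S.adj_card] at this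
  omega

theorem perm_tr_fix (hd : d ∈ S.D) (h : q = p ∨ S.adj p q) : S.tr p q = q := by
  obtain ⟨e, he, rfl⟩ := exists_over hd p
  obtain ⟨f, hf, rfl⟩ := exists_over hd q
  rw [← S.perm_nbr d hd e he]
  exact S.perm_fix d hd e he f hf (h.imp_left Eq.symm)

/-- The orthogonality sets separate the points. -/
theorem eq_of_sub (hd : d ∈ S.D) (h : ∀ s, s = p ∨ S.adj p s → s = q ∨ S.adj q s) : p = q := by
  classical
  rcases h p (Or.inl rfl) with h0 | h0
  · exact h0
  have hpq := S.adj_symm q p h0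
  have hsub : insert p {s | S.adj p s} ⊆ {s | (S.tr p * S.tr q) s = s} := by
    intro s hs
    have hs' : s = p ∨ S.adj p s := hs
    rw [Set.mem_ofPred_eq, Equiv.Perm.mul_apply, perm_tr_fix hd (h s hs'), perm_tr_fix hd hs']
  have := Set.ncard_le_ncard hsub (Set.toFinite _)
  rw [Set.ncard_insert_of_notMem (show p ∉ {s | S.adj p s} from fun h' => S.adj_irrefl p h'), S.adj_card] at this
  have := S.fix_two p q hpq
  omega

theorem pt_of_fix (hd : d ∈ S.D) (hc : Commute d x) (h : ∀ e ∈ nbr S.D d, S.pt d (x * e * x⁻¹) = S.pt d e) :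
    S.perm d x = 1 := by
  refine Equiv.ext fun p => ?_
  obtain ⟨e, he, rfl⟩ := exists_over hd p
  rw [← S.pt_conj d hd x hc e he, h e he, Equiv.Perm.one_apply]

/-- Nothing centralizes the class. -/
theorem centralize_trivial (hne : S.D.Nonempty) (hx : ∀ e ∈ S.D, Commute e x) : x = 1 := by
  classical
  by_contra hx1
  have hJ : ∀ d ∈ S.D, x ∈ S.J d := fun d hd => by
    obtain ⟨e, he, -⟩ := exists_over hd (S.pt d d)
    obtain ⟨f, hf, hfe, hfp⟩ := exists_other hd e (S.pt d e)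
    refine S.ker_pair d hd x (hx d hd) (pt_of_fix hd (hx d hd) fun a ha => by
      rw [← (hx a ha.1).eq, mul_inv_cancel_right]) e he f hf hfe.symm hfp.symm ?_
    exact (hx e he.1).symm.mul_right (hx f hf.1).symm
  obtain ⟨d, hd⟩ := hne
  obtain ⟨k, hk⟩ := S.J_two d hd ⟨x, hJ d hd⟩
  have hk' : x ^ 2 ^ k = 1 := congrArg Subtype.val hk
  obtain ⟨j, hj, hjdef⟩ : ∃ j, x ^ 2 ^ j ≠ 1 ∧ x ^ 2 ^ (j + 1) = 1 := by
    have hex : ∃ m, x ^ 2 ^ m = 1 := ⟨k, hk'⟩
    have h0 : Nat.find hex ≠ 0 := fun h => hx1 (by simpa [h] using Nat.find_spec hex)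
    exact ⟨Nat.find hex - 1, Nat.find_min hex (by omega), by
      rw [Nat.sub_add_cancel (Nat.one_le_iff_ne_zero.2 h0)]; exact Nat.find_spec hex⟩
  set y := x ^ 2 ^ j with hy
  have hy2 : y * y = 1 := by rw [hy, ← pow_add, ← two_mul, ← pow_succ', hjdef]
  have hcy : ∀ e ∈ S.D, Commute e y := fun e he => (hx e he).pow_right _
  have hall : ∀ d ∈ S.D, y = d := by
    intro d hd
    by_contra hyd
    obtain ⟨a, ha, b, hb, hab⟩ := S.J_invol d hd y ((S.J d).pow_mem (hJ d hd) _) hy2 hj hyd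
    obtain ⟨q, hq, hq'⟩ := exists_far_point S (S.pt a b)
    obtain ⟨f, hf, rfl⟩ := exists_over ha q
    refine (S.far_of_not ha hb hf hq.symm hq').1 ?_
    have h1 : Commute f (a * b) := hab ▸ hcy f hf.1
    have h2 : Commute f (a * (a * b)) := hf.2.2.symm.mul_right h1
    rw [← mul_assoc, S.sq ha, one_mul] at h2
    exact h2.symm
  have hsub : S.D ⊆ {y} := fun e he => (hall e he).symm
  obtain ⟨e, he⟩ := exists_over hd (S.pt d d)
  exact he.1.2.1 ((hall e he.1.1).symm.trans (hall d hd))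

/-- A subgroup of odd order normalised by everything is trivial. -/
theorem odd_normal (hne : S.D.Nonempty) (N : Subgroup G) [N.Normal] (hN : Odd (Nat.card N)) : N = ⊥ := by
  classical
  have hconj : ∀ w : G, ∀ n ∈ N, w * n * w⁻¹ ∈ N := fun w n hn => (inferInstance : N.Normal).conj_mem n hn w
  -- an involution without fixed points inverts
  have inv_of : ∀ (t : G), t * t = 1 → ∀ M : Subgroup G, M ≤ N → (∀ n ∈ M, t * n * t⁻¹ ∈ M) →
      (∀ n ∈ M, t * n * t⁻¹ = n → n = 1) → ∀ n ∈ M, t * n * t⁻¹ = n⁻¹ := by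
    intro t ht M hMN hM hfix
    let f : ↥M → ↥M := fun n => ⟨(n : G)⁻¹ * (t * n * t⁻¹), M.mul_mem (M.inv_mem n.2) (hM n n.2)⟩
    have hinj : Function.Injective f := by
      intro a b h
      have h' : (a : G)⁻¹ * (t * a * t⁻¹) = (b : G)⁻¹ * (t * b * t⁻¹) := congrArg Subtype.val h
      have h1 : t * ((b : G) * (a : G)⁻¹) * t⁻¹ = (b : G) * (a : G)⁻¹ := by
        calc t * ((b : G) * (a : G)⁻¹) * t⁻¹ = b * ((b : G)⁻¹ * (t * b * t⁻¹)) * (t * a * t⁻¹)⁻¹ := by group
          _ = b * ((a : G)⁻¹ * (t * a * t⁻¹)) * (t * a * t⁻¹)⁻¹ := by rw [h']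
          _ = b * (a : G)⁻¹ := by group
      exact Subtype.ext (mul_inv_eq_one.1 (hfix _ (M.mul_mem b.2 (M.inv_mem a.2)) h1)).symm
    intro n hn
    obtain ⟨m, hm⟩ := (Finite.injective_iff_surjective.1 hinj) ⟨n, hn⟩
    have hm' : (m : G)⁻¹ * (t * m * t⁻¹) = n := congrArg Subtype.val hm
    have hti : t⁻¹ = t := inv_eq_of_mul_eq_one_right ht
    rw [← hm']
    calc t * ((m : G)⁻¹ * (t * m * t⁻¹)) * t⁻¹ = (t * m * t⁻¹)⁻¹ * ((t * t) * m * (t⁻¹ * t⁻¹)) := by group
      _ = (t * m * t⁻¹)⁻¹ * m := by rw [hti, ht]; simp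
      _ = ((m : G)⁻¹ * (t * m * t⁻¹))⁻¹ := by group
  -- the fixed part at a member
  have hfix : ∀ d ∈ S.D, ∀ n ∈ N, d * n * d⁻¹ = n → n = 1 := by
    intro d hd n hn hdn
    have hdn' : Commute d n := mul_inv_eq_iff_eq_mul.1 hdn
    set M := N ⊓ centralizer ({d} : Set G) with hM
    have hMd : ∀ m ∈ M, Commute d m := fun m hm => (mem_centralizer_singleton_iff.1 hm.2).symm
    have hinv : ∀ e ∈ nbr S.D d, ∀ m ∈ M, e * m * e⁻¹ = m⁻¹ := by
      intro e he
      have hbot : N ⊓ centralizer ({d, e} : Set G) = ⊥ :=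
        S.odd_trivial d hd e he _ (hN.of_dvd_nat (card_dvd_of_le inf_le_left)) inf_le_right fun g hg =>
          mem_normalizer_inter hconj hg
      refine inv_of e (S.sq he.1) M inf_le_left (fun m hm => ⟨hconj e m hm.1, mem_centralizer_singleton_iff.2
        (((he.2.2.mul_right (hMd m hm)).mul_right he.2.2.inv_right).symm).eq⟩) fun m hm h => ?_
      refine mem_bot.1 (hbot ▸ ⟨hm.1, mem_centralizer_iff.2 ?_⟩)
      rintro w (rfl | rfl)
      exacts [(hMd m hm).eq, mul_inv_eq_iff_eq_mul.1 h]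
    have hnM : n ∈ M := ⟨hn, mem_centralizer_singleton_iff.2 hdn'.symm.eq⟩
    have hpair : ∀ e ∈ nbr S.D d, ∀ f ∈ nbr S.D d, Commute (e * f) n := fun e he f hf => by
      show e * f * n = n * (e * f)
      have e1 : f * n = n⁻¹ * f := mul_inv_eq_iff_eq_mul.1 (hinv f hf n hnM)
      have e2 : e * n⁻¹ = n * e := by
        have := hinv e he n⁻¹ (M.inv_mem hnM)
        rw [inv_inv] at this
        exact mul_inv_eq_iff_eq_mul.1 this
      rw [mul_assoc, e1, ← mul_assoc, e2, mul_assoc]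
    have hperm : S.perm d n = 1 := pt_of_fix hd hdn' fun e he => by
      obtain ⟨f, hf, hfe, hfp⟩ := exists_other hd e (S.pt d e)
      have he' := S.nbr_conj' hdn' he
      have hf' := S.nbr_conj' hdn' hf
      refine S.line_prod d hd _ he' _ hf' e he f hf (fun h => hfe (mul_left_cancel (mul_right_cancel h)).symm)
        (by rw [S.pt_conj d hd n hdn' e he, S.pt_conj d hd n hdn' f hf, hfp]) hfp.symm ?_
      rw [show n * e * n⁻¹ * (n * f * n⁻¹) = n * (e * f) * n⁻¹ by group, ← (hpair e he f hf).eq, mul_inv_cancel_right]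
    have hJ : n ∈ S.J d := by
      obtain ⟨e, he, -⟩ := exists_over hd (S.pt d d)
      obtain ⟨f, hf, hfe, hfp⟩ := exists_other hd e (S.pt d e)
      exact S.ker_pair d hd n hdn' hperm e he f hf hfe.symm hfp.symm (hpair e he f hf).symm
    obtain ⟨k, hk⟩ := S.J_two d hd ⟨n, hJ⟩
    have hk' : n ^ 2 ^ k = 1 := congrArg Subtype.val hk
    rw [← orderOf_eq_one_iff]
    refine Nat.eq_one_of_dvd_coprimes ((Nat.coprime_two_left.2 hN).symm.pow_right k)
      (N.orderOf_dvd_natCard hn) (orderOf_dvd_of_pow_eq_one hk')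
  obtain ⟨d, hd⟩ := hne
  have hi : ∀ t ∈ S.D, ∀ n ∈ N, t * n * t⁻¹ = n⁻¹ := fun t ht =>
    inv_of t (S.sq ht) N le_rfl (fun n hn => hconj t n hn) (hfix t ht)
  obtain ⟨a, ha, hap⟩ := exists_over hd (S.pt d d)
  obtain ⟨F, hF⟩ : ∃ F : Finset G, ∀ y, y ∈ F ↔ y ∈ nbr S.D d ∧ S.pt d y = S.pt d a :=
    ⟨(Set.toFinite {y | y ∈ nbr S.D d ∧ S.pt d y = S.pt d a}).toFinset, fun y => by simp⟩
  have hF4 : F.card = 4 := by
    rw [← S.fibre_card d hd (S.pt d a), ← Set.ncard_coe_finset]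
    congr 1
    ext y
    simp [hF]
  obtain ⟨w, b, c, e, hwb, hwc, hwe, hbc, hbe, hce, hset⟩ := Finset.card_eq_four.1 hF4
  have m : ∀ y ∈ ({w, b, c, e} : Finset G), y ∈ nbr S.D d ∧ S.pt d y = S.pt d a := fun y hy => (hF y).1 (hset ▸ hy)
  obtain ⟨hw, pw⟩ := m w (by simp)
  obtain ⟨hb, pb⟩ := m b (by simp)
  obtain ⟨hc, pc⟩ := m c (by simp)
  obtain ⟨he, pe⟩ := m e (by simp)
  have h5 := S.line_five d hd w hw b hb c hc e he hwb hwc hwe hbc hbe hce (pw.trans pb.symm) (pw.trans pc.symm)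
    (pw.trans pe.symm)
  refine (Subgroup.eq_bot_iff_forall _).2 fun n hn => ?_
  have step : ∀ {t : G}, t ∈ S.D → ∀ {m : G}, m ∈ N → t * m = m⁻¹ * t := fun ht _ hm =>
    mul_inv_eq_iff_eq_mul.1 (hi _ ht _ hm)
  have hneg : ∀ {t : G}, t ∈ S.D → t * n⁻¹ = n * t := fun ht => by
    have := step ht (N.inv_mem hn)
    rwa [inv_inv] at this
  have h2 : n = n⁻¹ := by
    have h := congrArg (fun u => u * n) h5
    simp only [one_mul] at h
    rw [mul_assoc (d * w * b * c), step he.1 hn, ← mul_assoc, mul_assoc (d * w * b), hneg hc.1, ← mul_assoc,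
      mul_assoc (d * w), step hb.1 hn, ← mul_assoc, mul_assoc d, hneg hw.1, ← mul_assoc, step hd hn] at h
    rw [show n⁻¹ * d * w * b * c * e = n⁻¹ * (d * w * b * c * e) by group, h5, mul_one] at h
    exact h.symm
  rw [← orderOf_eq_one_iff]
  refine Nat.eq_one_of_dvd_coprimes (Nat.coprime_two_left.2 hN).symm (N.orderOf_dvd_natCard hn)
    (orderOf_dvd_of_pow_eq_one ?_)
  rw [pow_two]
  nth_rw 2 [h2]
  exact mul_inv_cancel n

/-- A normal 2-subgroup is trivial. -/
theorem two_normal (hne : S.D.Nonempty)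
    (hcore : ∀ d ∈ S.D, ∀ T : Subgroup G, IsPGroup 2 T → T ≤ centralizer ({d} : Set G) →
      centralizer ({d} : Set G) ≤ normalizer (T : Set G) → T ≤ S.J d)
    (N : Subgroup G) [N.Normal] (hN : IsPGroup 2 N) : N = ⊥ := by
  classical
  by_contra hNb
  haveI : Fact (Nat.Prime 2) := ⟨Nat.prime_two⟩
  haveI : Nontrivial N := (Subgroup.nontrivial_iff_ne_bot _).2 hNb
  haveI := hN.center_nontrivial
  -- a normal elementary subgroup
  let M : Subgroup G :=
    { carrier := {x | x ∈ N ∧ x * x = 1 ∧ ∀ n ∈ N, Commute n x}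
      one_mem' := ⟨N.one_mem, one_mul 1, fun n _ => Commute.one_right n⟩
      mul_mem' := fun {x y} hx hy => ⟨N.mul_mem hx.1 hy.1, by
        rw [mul_assoc, ← mul_assoc y x y, ← (hy.2.2 x hx.1).eq, mul_assoc x y y, hy.2.1, mul_one, hx.2.1],
        fun n hn => (hx.2.2 n hn).mul_right (hy.2.2 n hn)⟩
      inv_mem' := fun {x} hx => ⟨N.inv_mem hx.1, by rw [← mul_inv_rev, hx.2.1, inv_one],
        fun n hn => (hx.2.2 n hn).inv_right⟩ }
  have hMconj : ∀ w : G, ∀ x ∈ M, w * x * w⁻¹ ∈ M := fun w x hx => by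
    refine ⟨(inferInstance : N.Normal).conj_mem x hx.1 w, ?_, fun n hn => ?_⟩
    · rw [show w * x * w⁻¹ * (w * x * w⁻¹) = w * (x * x) * w⁻¹ by group, hx.2.1, mul_one, mul_inv_cancel]
    · have h := (hx.2.2 (w⁻¹ * n * w) (by simpa using (inferInstance : N.Normal).conj_mem n hn w⁻¹)).map
        (MulAut.conj w).toMonoidHom
      simpa [mul_assoc] using h
  obtain ⟨m₀, hm₀, hm₀1⟩ : ∃ m ∈ M, m ≠ (1 : G) := by
    obtain ⟨⟨⟨x, hx⟩, hxc⟩, hx1⟩ := exists_ne (1 : center N)
    obtain ⟨k, hk⟩ := hN ⟨x, hx⟩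
    have hk' : x ^ 2 ^ k = 1 := congrArg Subtype.val hk
    have hx1' : x ≠ 1 := fun h => hx1 (Subtype.ext (Subtype.ext h))
    have hex : ∃ m, x ^ 2 ^ m = 1 := ⟨k, hk'⟩
    have h0 : Nat.find hex ≠ 0 := fun h => hx1' (by simpa [h] using Nat.find_spec hex)
    refine ⟨x ^ 2 ^ (Nat.find hex - 1), ⟨N.pow_mem hx _, ?_, fun n hn => ?_⟩, Nat.find_min hex (by omega)⟩
    · rw [← pow_add, ← two_mul, ← pow_succ', Nat.sub_add_cancel (Nat.one_le_iff_ne_zero.2 h0)]
      exact Nat.find_spec hex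
    · have hc : Commute n x := congrArg Subtype.val (mem_center_iff.1 hxc ⟨n, hn⟩)
      exact hc.pow_right _
  -- inside, a member
  have hmem : ∀ d ∈ S.D, d ∈ M := by
    intro d hd
    by_contra hdM
    obtain ⟨r, hr, hr1, hrd⟩ : ∃ r ∈ M, r ≠ (1 : G) ∧ Commute d r := by
      by_cases h : d * m₀ * d⁻¹ = m₀
      · exact ⟨m₀, hm₀, hm₀1, mul_inv_eq_iff_eq_mul.1 h⟩
      · refine ⟨m₀ * (d * m₀ * d⁻¹), M.mul_mem hm₀ (hMconj d m₀ hm₀), fun h1 => h ?_, ?_⟩
        · exact ((inv_eq_of_mul_eq_one_right hm₀.2.1).symm.trans (inv_eq_of_mul_eq_one_right h1)).symm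
        · show d * (m₀ * (d * m₀ * d⁻¹)) = m₀ * (d * m₀ * d⁻¹) * d
          have hc : m₀ * (d * m₀ * d⁻¹) = d * m₀ * d⁻¹ * m₀ := (hm₀.2.2 _ (hMconj d m₀ hm₀).1).eq.symm
          nth_rw 2 [hc]
          rw [S.inv_eq hd]
          simp only [mul_assoc]
    have hrJ : r ∈ S.J d := by
      refine hcore d hd (M ⊓ centralizer ({d} : Set G)) (hN.to_le fun x hx => hx.1.1) inf_le_right (fun g hg => ?_)
        ⟨hr, mem_centralizer_singleton_iff.2 hrd.symm.eq⟩
      exact mem_normalizer_inter hMconj hg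
    obtain ⟨a, ha, b, hb, hab⟩ := S.J_invol d hd r hrJ hr.2.1 hr1 (fun e => hdM (e ▸ hr))
    obtain ⟨q, hq, hq'⟩ := exists_far_point S (S.pt a b)
    obtain ⟨f, hf, rfl⟩ := exists_over ha q
    obtain ⟨hnc, h3⟩ := S.far_of_not ha hb hf hq.symm hq'
    -- an element taking the first neighbour to the second
    have hg : (b * f) * b * (b * f)⁻¹ = f := by
      have e3 : b * f * (b * f) * (b * f) = 1 := by rw [← h3]; simp [pow_succ]
      have e4 : (b * f)⁻¹ = b * f * (b * f) := inv_eq_of_mul_eq_one_left e3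
      rw [e4, show b * f * b * (b * f * (b * f)) = b * f * ((b * b) * (f * (b * f))) by group, S.sq hb.1, one_mul,
        show b * f * (f * (b * f)) = b * (f * f) * b * f by group, S.sq hf.1, mul_one, S.sq hb.1, one_mul]
    have hga : Commute a (b * f) := hb.2.2.mul_right hf.2.2
    have hm : a * f ∈ M := by
      have := hMconj (b * f) r hr
      rwa [hab, show b * f * (a * b) * (b * f)⁻¹ = (b * f * a * (b * f)⁻¹) * (b * f * b * (b * f)⁻¹) by group,
        hg, ← hga.eq, mul_inv_cancel_right] at this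
    have hbf : b * f ∈ M := by
      have h := M.mul_mem hr hm
      rwa [hab, mul_assoc a b, ← mul_assoc b a, ← hb.2.2.eq, mul_assoc a b f, ← mul_assoc a a, S.sq ha,
        one_mul] at h
    refine hnc ?_
    show b * f = f * b
    rw [← inv_eq_of_mul_eq_one_right hbf.2.1, mul_inv_rev, S.inv_eq hb.1, S.inv_eq hf.1]
  obtain ⟨d, hd⟩ := hne
  obtain ⟨b, hb, hbp⟩ := exists_over hd (S.pt d d)
  obtain ⟨q, hq, hq'⟩ := exists_far_point S (S.pt d b)
  obtain ⟨f, hf, rfl⟩ := exists_over hd q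
  exact (S.far_of_not hd hb hf hq.symm hq').1 ((hmem f hf.1).2.2 b (hmem b hb.1).1)

end Cfsg.Agent.U62Aut.Setting
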