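import Cfsg.Agent.Lib.U62Aut.Setting
import Cfsg.Agent.Lib.U62Aut.Local

/-!
A class with the local hypotheses at each member: no member lies in the 2-core of the centralizer of another.
-/

set_option autoImplicit false
set_option linter.style.haveILetI false
set_option linter.unusedSectionVars false

namespace Cfsg.Agent.U62Aut

open Subgroup LargeExtra
open scoped commutatorElement

variable {G : Type*} [Group G] [Finite G] {P : Type} [Fintype P] [DecidableEq P] {Γ : Geo P}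

/-- A class with the local hypotheses at each member. -/
structure Fam {G : Type*} [Group G] {P : Type} [Fintype P] [DecidableEq P] (Γ : Geo P) where
  /-- The class. -/
  D : Set G
  conj_mem : ∀ (g : G), ∀ d ∈ D, g * d * g⁻¹ ∈ D
  isConj : ∀ a ∈ D, ∀ b ∈ D, ∃ g : G, g * a * g⁻¹ = b
  /-- The local hypotheses. -/
  loc : ∀ d ∈ D, Loc Γ d

namespace Loc

variable {z : G} (L : Loc Γ z)

include L

theorem sq : z * z = 1 := L.xs.toXSub.sq

theorem big : 32 ≤ Nat.card (coreAt z) := by rw [L.card]; norm_num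

theorem comm {a : G} (ha : a ∈ coreAt z) : Commute z a := (L.xs.comm ha).symm

theorem perm_one : L.perm 1 = 1 := L.perm_core 1 (one_mem _)

theorem perm_z : L.perm z = 1 := L.perm_core z L.xs.mem

theorem conj_core {g : G} (hg : Commute z g) {a : G} (ha : a ∈ coreAt z) : g * a * g⁻¹ ∈ coreAt z :=
  conj_mem (coreAt_normal z (mem_centralizer_one.2 hg.eq.symm)) ha

theorem commutator_mem {g : G} (hg : Commute z g) {a : G} (ha : a ∈ coreAt z) : ⁅g, a⁆ ∈ coreAt z := by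
  rw [commutatorElement_def]
  exact mul_mem (L.conj_core hg ha) (inv_mem ha)

/-- The order of a 2-subgroup of the centralizer from its image. -/
theorem card_image {N : Subgroup G} (h2 : IsPGroup 2 N) (hN : ∀ a ∈ N, Commute z a) :
    Nat.card N = (L.perm '' (N : Set G)).ncard * Nat.card ↥(N ⊓ coreAt z) := by
  let f : N →* Equiv.Perm P :=
    { toFun := fun a => L.perm a
      map_one' := L.perm_one
      map_mul' := fun a b => L.perm_mul a b (hN a a.2) (hN b b.2) }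
  have hker : f.ker = (N ⊓ coreAt z).subgroupOf N := by
    ext a
    rw [MonoidHom.mem_ker, mem_subgroupOf, mem_inf]
    refine ⟨fun h => ?_, fun h => L.perm_core a h.2⟩
    obtain ⟨k, hk⟩ := h2 a
    refine ⟨a.2, L.ker_two a (hN a a.2) h k ?_⟩
    rw [← SubmonoidClass.coe_pow, hk]
    exact one_mem _
  have hr : (L.perm '' (N : Set G)).ncard = Nat.card f.range := by
    rw [← Nat.card_coe_set_eq]
    refine Nat.card_congr (Equiv.setCongr ?_)
    ext x
    constructor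
    · rintro ⟨a, ha, rfl⟩; exact ⟨⟨a, ha⟩, rfl⟩
    · rintro ⟨a, rfl⟩; exact ⟨a, a.2, rfl⟩
  rw [hr, ← Nat.card_congr (QuotientGroup.quotientKerEquivRange f).toEquiv,
    ← Nat.card_congr (subgroupOfEquivOfLe (inf_le_left : N ⊓ coreAt z ≤ N)).toEquiv, ← hker]
  exact card_eq_card_quotient_mul_card_subgroup f.ker

/-- A member of a point's subgroup commuting with everything commuting with that subgroup. -/
theorem mem_rad_of {p : P} {a : G} (ha : a ∈ coreAt z)
    (h : ∀ b ∈ coreAt z, (∀ r ∈ L.rad p, Commute b r) → Commute a b) : a ∈ L.rad p := by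
  by_contra hn
  obtain ⟨q, hq, hc, e⟩ := L.xs.toXSub.exists_conj_mul (L.z_mem_rad p) (L.rad_le p) ha hn
  have hqa := h q hq fun r hr => hc r hr
  rw [← hqa.eq, mul_inv_cancel_right] at e
  exact L.xs.toXSub.ne_mul_z a e

theorem card_centralizer {s : G} (hs : s ∈ coreAt z) (h1 : s ≠ 1) (h2 : s ≠ z) :
    Nat.card ↥(coreAt z ⊓ centralizer {s}) = 256 := by
  classical
  obtain ⟨q, hq, e⟩ := L.xs.toXSub.exists_conj hs h1 h2
  obtain ⟨N, hN⟩ : ∃ N, N = coreAt z ⊓ centralizer {s} := ⟨_, rfl⟩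
  have hqN : q ∉ N := fun h => by
    rw [hN] at h
    rw [mem_centralizer_one.1 h.2, mul_inv_cancel_right] at e
    exact L.xs.toXSub.ne_mul_z s e
  have hset : (coreAt z : Set G) = (N : Set G) ∪ (fun a => q * a) '' (N : Set G) := by
    ext a
    simp only [Set.mem_union, Set.mem_image, SetLike.mem_coe]
    constructor
    · intro ha
      rcases L.xs.toXSub.conj_cases ha hs with h | h
      · exact Or.inl (hN ▸ ⟨ha, mem_centralizer_one.2 (mul_inv_eq_iff_eq_mul.1 h)⟩)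
      · refine Or.inr ⟨q⁻¹ * a, hN ▸ ⟨(coreAt z).mul_mem ((coreAt z).inv_mem hq) ha, mem_centralizer_one.2 ?_⟩, by rw [mul_inv_cancel_left]⟩
        have e1 : a * s = s * z * a := mul_inv_eq_iff_eq_mul.1 h
        have e2 : q⁻¹ * (s * z) = s * q⁻¹ := by
          rw [← e]; group
        calc q⁻¹ * a * s = q⁻¹ * (s * z) * a := by rw [mul_assoc, e1]; group
          _ = s * (q⁻¹ * a) := by rw [e2, mul_assoc]
    · rintro (ha | ⟨b, hb, rfl⟩)
      · exact (hN ▸ ha : a ∈ coreAt z ⊓ centralizer {s}).1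
      · exact mul_mem hq (hN ▸ hb : b ∈ coreAt z ⊓ centralizer {s}).1
  have hd : Disjoint (N : Set G) ((fun a => q * a) '' (N : Set G)) := by
    rw [Set.disjoint_left]
    rintro a ha ⟨b, hb, rfl⟩
    exact hqN (by simpa using N.mul_mem ha (N.inv_mem hb))
  have hc : (coreAt z : Set G).ncard = 512 := by rw [← Nat.card_coe_set_eq]; exact L.card
  rw [hset, Set.ncard_union_eq hd, Set.ncard_image_of_injective _ (mul_right_injective q)] at hc
  have h3 : (N : Set G).ncard = Nat.card N := (Nat.card_coe_set_eq (N : Set G)).symm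
  rw [← hN]
  omega

end Loc

namespace Fam

variable (F : Fam (G := G) Γ) {z s t u : G}

theorem mem_core_symm (hz : z ∈ F.D) (hs : s ∈ F.D) (h : s ∈ coreAt z) (hne : s ≠ z) : z ∈ coreAt s := by
  obtain ⟨g, rfl⟩ := F.isConj z hz s hs
  rw [coreAt_conj]
  exact (F.loc z hz).xs.mem_conj (F.loc z hz).big h hne

/-- No member other than `z` lies in the 2-core of the centralizer of `z`. -/
theorem weak (hz : z ∈ F.D) (hs : s ∈ F.D) (h : s ∈ coreAt z) : s = z := by
  classical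
  by_contra hne
  obtain ⟨L, -⟩ : ∃ L : Loc Γ z, L = F.loc z hz := ⟨_, rfl⟩
  obtain ⟨L', -⟩ : ∃ L' : Loc Γ s, L' = F.loc s hs := ⟨_, rfl⟩
  have hzs : z ∈ coreAt s := F.mem_core_symm hz hs h hne
  have O : Orth (coreAt z) z (coreAt s) s := ⟨L.xs, L'.xs, h, hzs, hne⟩
  have hs1 : s ≠ 1 := L'.xs.toXSub.ne_one
  have hz1 : z ≠ 1 := L.xs.toXSub.ne_one
  obtain ⟨R, hR⟩ : ∃ R, R = coreAt z ⊓ coreAt s := ⟨_, rfl⟩
  have hRsq : ∀ a ∈ R, a * a = 1 := fun a ha => by rw [← pow_two]; exact O.elementary.2 a (hR ▸ ha)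
  obtain ⟨p, hp⟩ := L.rad_cover s h L'.sq hs1 hne
  obtain ⟨N, hN⟩ : ∃ N, N = coreAt s ⊓ centralizer {z} := ⟨_, rfl⟩
  have hmem : ∀ {g : G}, g ∈ centralizer {z, s} ↔ Commute z g ∧ Commute s g := fun {g} => by
    rw [mem_centralizer_iff]
    simp only [Set.mem_insert_iff, Set.mem_singleton_iff, forall_eq_or_imp, forall_eq]
    rfl
  have hNcard : Nat.card N = 256 := hN ▸ L'.card_centralizer hzs hz1 (Ne.symm hne)
  have hNz : ∀ a ∈ N, Commute z a := fun a ha => by
    rw [hN] at ha; exact (mem_centralizer_one.1 ha.2).symm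
  obtain ⟨himg16, hfix⟩ := L.stab_elem p s hp hs1 hne N
    (fun a ha => hmem.2 ⟨hNz a ha, L'.comm (hN ▸ ha : a ∈ coreAt s ⊓ centralizer {z}).1⟩)
    (fun g hg => by
      obtain ⟨g1, g2⟩ := hmem.1 hg
      rw [hN]
      refine mem_normalizer_of_conj (S := zpowers g) ?_ (mem_zpowers g)
      intro k hk a ha
      obtain ⟨n, rfl⟩ := mem_zpowers_iff.1 hk
      exact ⟨L'.conj_core (g2.zpow_right n) ha.1,
        mem_centralizer_one.2 (((g1.zpow_right n).mul_right (show Commute z a from (mem_centralizer_one.1 ha.2).symm)).mul_right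
          (g1.zpow_right n).inv_right).eq.symm⟩)
    (fun a ha => by
      rw [hN] at ha
      rcases L'.xs.toXSub.sq_cases ha.1 with e | e <;> rw [e]
      exacts [one_mem _, h])
  have hcard := L.card_image (hN ▸ (coreAt_isPGroup s).to_le inf_le_left) hNz
  have hle : N ⊓ coreAt z = R := le_antisymm (fun a ha => hR ▸ ⟨ha.2, (hN ▸ ha.1 : a ∈ coreAt s ⊓ centralizer {z}).1⟩)
    fun a ha => by
      have ha' : a ∈ coreAt z ⊓ coreAt s := hR ▸ ha
      exact ⟨hN ▸ ⟨ha'.2, mem_centralizer_one.2 (L.comm ha'.1).eq.symm⟩, ha'.1⟩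
  rw [hle, hNcard] at hcard
  have h16 : 16 ≤ Nat.card R := by
    have := Nat.mul_le_mul_right (Nat.card R) himg16
    omega
  have hinv : centralizer {z, s} ≤ normalizer (R : Set G) := fun g hg => by
    obtain ⟨g1, g2⟩ := hmem.1 hg
    rw [hR]
    refine mem_normalizer_of_conj (S := zpowers g) ?_ (mem_zpowers g)
    intro k hk a ha
    obtain ⟨n, rfl⟩ := mem_zpowers_iff.1 hk
    exact ⟨L.conj_core (g1.zpow_right n) ha.1, L'.conj_core (g2.zpow_right n) ha.2⟩
  have hrad := L.stab_closure p s hp hs1 hne R (hR ▸ inf_le_left) hRsq (hR ▸ ⟨L.xs.mem, hzs⟩)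
    (hR ▸ ⟨h, L'.xs.mem⟩) (by omega) hinv
  have hgap := L.stab_gap p s hp hs1 hne R (hR ▸ inf_le_left) hRsq (hR ▸ ⟨L.xs.mem, hzs⟩)
    (hR ▸ ⟨h, L'.xs.mem⟩) hinv
  have h32 : 32 ≤ Nat.card R := by
    haveI : Fact (Nat.Prime 2) := ⟨Nat.prime_two⟩
    obtain ⟨k, hk⟩ := IsPGroup.iff_card.1 (show IsPGroup 2 R from fun a => ⟨1, Subtype.ext (by
      rw [pow_one, pow_two, Subgroup.coe_mul]; exact hRsq _ a.2)⟩)
    rw [hk] at h16 hgap ⊢
    have : 5 ≤ k := by
      by_contra hk5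
      interval_cases k <;> simp_all
    exact le_trans (by norm_num) (Nat.pow_le_pow_right (show 2 > 0 by norm_num) this)
  have himg8 : (L.perm '' (N : Set G)).ncard ≤ 8 := by
    have := Nat.mul_le_mul_left (L.perm '' (N : Set G)).ncard h32
    omega
  obtain ⟨H, hH⟩ : ∃ H, H = closure ({z, s} : Set G) := ⟨_, rfl⟩
  have hHmem : ∀ x, x ∈ H ↔ x = 1 ∨ x = z ∨ x = s ∨ x = z * s := fun x =>
    hH ▸ mem_closure_pair L.sq L'.sq (L.comm h).eq
  obtain ⟨v, hv, hvH⟩ : ∃ v ∈ L.rad p, v ∉ H := by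
    by_contra hc
    push Not at hc
    have hsub : (L.rad p : Set G) ⊆ ({1, z, s, z * s} : Finset G) := fun x hx => by
      simpa using (hHmem x).1 (hc x hx)
    have h1 := Set.ncard_le_ncard hsub (Finset.finite_toSet _)
    rw [Set.ncard_coe_finset, ← Nat.card_coe_set_eq] at h1
    have h2 : Nat.card (L.rad p : Set G) = 8 := L.rad_card p
    have := Finset.card_le_four (a := (1 : G)) (b := z) (c := s) (d := z * s)
    omega
  obtain ⟨q, hq, hqH, e⟩ := L'.xs.toXSub.exists_conj_mul (H := H) (hH ▸ subset_closure (by simp))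
    (hH ▸ (closure_le _).2 (by rintro _ (rfl | rfl); exacts [hzs, L'.xs.mem]))
    ((hR ▸ hrad hv : v ∈ coreAt z ⊓ coreAt s)).2 hvH
  have hqz : Commute z q := (hqH z (hH ▸ subset_closure (by simp))).symm
  rcases hfix himg8 q (hN ▸ ⟨hq, mem_centralizer_one.2 hqz.eq.symm⟩) v hv with h1 | h1 <;> rw [e] at h1
  · exact hs1 (mul_eq_left.1 h1)
  · exact hne (mul_left_cancel h1)

variable {d e : G}

theorem notMem (hz : z ∈ F.D) (ht : t ∈ nbr F.D z) : t ∉ coreAt z := fun h => ht.2.1 (F.weak hz ht.1 h)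

theorem notMem' (hz : z ∈ F.D) (ht : t ∈ nbr F.D z) : z ∉ coreAt t := fun h => ht.2.1 (F.weak ht.1 hz h).symm

theorem sqD (hz : z ∈ F.D) : z * z = 1 := (F.loc z hz).sq

theorem invD (hz : z ∈ F.D) : z⁻¹ = z := inv_eq_of_mul_eq_one_right (F.sqD hz)

theorem nbr_symm (hz : z ∈ F.D) (ht : t ∈ nbr F.D z) : z ∈ nbr F.D t := ⟨hz, ht.2.1.symm, ht.2.2.symm⟩

theorem core_inf_sq (hz : z ∈ F.D) (ht : t ∈ nbr F.D z) {r : G} (hr : r ∈ coreAt z ⊓ coreAt t) : r * r = 1 := by
  rcases (F.loc z hz).xs.toXSub.sq_cases hr.1 with e | e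
  · exact e
  · exact absurd (e ▸ mul_mem hr.2 hr.2) (F.notMem' hz ht)

theorem core_inf_one (hz : z ∈ F.D) (ht : t ∈ nbr F.D z) {r : G} (hr : r ∈ coreAt z ⊓ coreAt t)
    (h : t * r ∈ F.D) : r = 1 :=
  mul_eq_left.1 (F.weak ht.1 h (mul_mem (F.loc t ht.1).xs.mem hr.2))

/-- A transported member. -/
theorem conj_eq (hz : z ∈ F.D) (ht : t ∈ nbr F.D z) (b : G) : b * t * b⁻¹ = t * ⁅t, b⁆ := by
  rw [commutatorElement_def, F.invD ht.1, ← mul_assoc, ← mul_assoc, ← mul_assoc, F.sqD ht.1, one_mul]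

theorem commutator_one (hz : z ∈ F.D) (ht : t ∈ nbr F.D z) {b : G} (hr : ⁅t, b⁆ ∈ coreAt z ⊓ coreAt t) :
    ⁅t, b⁆ = 1 := F.core_inf_one hz ht hr (F.conj_eq hz ht b ▸ F.conj_mem b t ht.1)

theorem commutator_z (hz : z ∈ F.D) (ht : t ∈ nbr F.D z) {b : G} (hb : b ∈ coreAt z) (htz : t * z ∈ F.D)
    (hr : ⁅t, b⁆ * z ∈ coreAt z ⊓ coreAt t) : ⁅t, b⁆ * z = 1 := by
  refine F.core_inf_one hz ht hr ?_
  have := F.conj_mem b (t * z) htz
  rw [← mul_assoc, ← F.conj_eq hz ht b]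
  rwa [show b * (t * z) * b⁻¹ = b * t * b⁻¹ * z by
    rw [← mul_assoc, mul_assoc, ((F.loc z hz).comm hb).inv_right.eq, ← mul_assoc]] at this

end Fam

end Cfsg.Agent.U62Aut
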